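/-
Conjugacy of matrix representations of groups of invertible order does not depend on the field.
-/
import Mathlib
set_option autoImplicit false
set_option linter.unusedSectionVars false

namespace CF.FC
open Module Polynomial

section
universe u
variable {K A : Type*} [Field K] [Ring A] [Algebra K A]

/-- dimension of the space of homomorphisms -/
noncomputable def hm (K A V W : Type*) [Field K] [Ring A] [Algebra K A] [AddCommGroup V] [Module A V] [AddCommGroup W]
    [Module A W] [Module K W] [IsScalarTower K A W] : ℕ := finrank K (V →ₗ[A] W)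

variable {V W V' W' U : Type*} [AddCommGroup V] [Module A V] [Module K V] [IsScalarTower K A V]
  [AddCommGroup W] [Module A W] [Module K W] [IsScalarTower K A W]
  [AddCommGroup V'] [Module A V'] [Module K V'] [IsScalarTower K A V']
  [AddCommGroup W'] [Module A W'] [Module K W'] [IsScalarTower K A W']
  [AddCommGroup U] [Module A U] [Module K U] [IsScalarTower K A U]

theorem hm_congr (e : V ≃ₗ[A] V') (f : W ≃ₗ[A] W') : hm K A V W = hm K A V' W' :=
  LinearEquiv.finrank_eq { e.arrowCongrAddEquiv f with
    map_smul' := fun c g => LinearMap.ext fun x => (f.restrictScalars K).map_smul c (g (e.symm x)) }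

instance hfin [FiniteDimensional K V] [FiniteDimensional K W] : FiniteDimensional K (V →ₗ[A] W) :=
  .of_injective (LinearMap.restrictScalarsₗ K A V W K) (LinearMap.restrictScalars_injective K)

variable [FiniteDimensional K V] [FiniteDimensional K W] [FiniteDimensional K V'] [FiniteDimensional K W']
  [FiniteDimensional K U]

theorem hm_prod : hm K A (V × V') (W × W') = hm K A V W + hm K A V W' + hm K A V' W + hm K A V' W' := by
  unfold hm
  rw [← (LinearMap.coprodEquiv K).finrank_eq, finrank_prod, ← (LinearMap.prodEquiv K).finrank_eq,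
    ← (LinearMap.prodEquiv K).finrank_eq, finrank_prod, finrank_prod]
  omega

theorem sub_of_hm (h : hm K A V V = 0) : Subsingleton V := by
  have : Subsingleton (V →ₗ[A] V) := finrank_zero_iff.1 h
  exact ⟨fun x y => by
    have e : (LinearMap.id : V →ₗ[A] V) = 0 := Subsingleton.elim _ _
    exact (LinearMap.congr_fun e x).trans (LinearMap.congr_fun e y).symm⟩

theorem iso_of_hm [IsSemisimpleRing A] (n : ℕ) : ∀ (V W : Type u) [AddCommGroup V] [Module A V] [Module K V]
    [IsScalarTower K A V] [AddCommGroup W] [Module A W] [Module K W] [IsScalarTower K A W] [FiniteDimensional K V]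
    [FiniteDimensional K W], finrank K V + finrank K W = n →
    hm K A V V + hm K A W W = hm K A V W + hm K A W V → Nonempty (V ≃ₗ[A] W) := by
  induction n using Nat.strong_induction_on with
  | _ n ih =>
  have key : ∀ (V W : Type u) [AddCommGroup V] [Module A V] [Module K V]
      [IsScalarTower K A V] [AddCommGroup W] [Module A W] [Module K W] [IsScalarTower K A W] [FiniteDimensional K V]
      [FiniteDimensional K W], finrank K V + finrank K W = n →
      hm K A V V + hm K A W W = hm K A V W + hm K A W V → ∀ f : V →ₗ[A] W, f ≠ 0 → Nonempty (V ≃ₗ[A] W) := by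
    intro V W _ _ _ _ _ _ _ _ _ _ hn h f hf
    obtain ⟨C, hC⟩ := exists_isCompl (LinearMap.ker f)
    obtain ⟨D, hD⟩ := exists_isCompl (LinearMap.range f)
    let e : V ≃ₗ[A] LinearMap.range f × LinearMap.ker f := (Submodule.prodEquivOfIsCompl _ _ hC.symm).symm.trans
      (((Submodule.quotientEquivOfIsCompl _ _ hC).symm.trans f.quotKerEquivRange).prodCongr (.refl _ _))
    let e' : W ≃ₗ[A] LinearMap.range f × D := (Submodule.prodEquivOfIsCompl _ _ hD).symm
    have fd : ∀ N : Submodule A W, FiniteDimensional K N := fun N =>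
      .of_injective (N.subtype.restrictScalars K) N.subtype_injective
    have fd' : ∀ N : Submodule A V, FiniteDimensional K N := fun N =>
      .of_injective (N.subtype.restrictScalars K) N.subtype_injective
    rw [hm_congr e e, hm_congr e' e', hm_congr e e', hm_congr e' e, hm_prod, hm_prod, hm_prod, hm_prod] at h
    rw [(e.restrictScalars K).finrank_eq, (e'.restrictScalars K).finrank_eq, finrank_prod, finrank_prod] at hn
    have : Nontrivial (LinearMap.range f) := Submodule.nontrivial_iff_ne_bot.2 (by rwa [Ne, LinearMap.range_eq_bot])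
    have := finrank_pos (R := K) (M := LinearMap.range f)
    obtain ⟨g⟩ := ih _ (by omega) (LinearMap.ker f) D rfl (by omega)
    exact ⟨e.trans (((LinearEquiv.refl _ _).prodCongr g).trans e'.symm)⟩
  intro V W _ _ _ _ _ _ _ _ _ _ hn h
  by_cases h1 : ∃ f : V →ₗ[A] W, f ≠ 0
  · exact let ⟨f, hf⟩ := h1; key V W hn h f hf
  by_cases h2 : ∃ f : W →ₗ[A] V, f ≠ 0
  · obtain ⟨f, hf⟩ := h2
    exact ⟨(key W V (by omega) (by omega) f hf).some.symm⟩
  push Not at h1 h2
  have : Subsingleton (V →ₗ[A] W) := subsingleton_of_forall_eq 0 h1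
  have : Subsingleton (W →ₗ[A] V) := subsingleton_of_forall_eq 0 h2
  rw [show hm K A V W = 0 from finrank_zero_of_subsingleton, show hm K A W V = 0 from finrank_zero_of_subsingleton] at h
  have := sub_of_hm (K := K) (A := A) (V := V) (by omega)
  have := sub_of_hm (K := K) (A := A) (V := W) (by omega)
  exact ⟨LinearEquiv.ofSubsingleton _ _⟩
end

section
variable {P n K R : Type*} [Group P] [Fintype n] [DecidableEq n] [Field K] [CommRing R]

/-- intertwining matrices -/
def It (α β : P →* Matrix n n R) : Submodule R (Matrix n n R) where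
  carrier := {X | ∀ g, β g * X = X * α g}
  add_mem' a b g := by rw [mul_add, add_mul, a g, b g]
  zero_mem' g := by simp
  smul_mem' c X a g := by rw [mul_smul_comm, smul_mul_assoc, a g]

/-- the representation on column vectors -/
def rp (α : P →* Matrix n n K) : Representation K P (n → K) :=
  (Matrix.toLinAlgEquiv' : Matrix n n K ≃ₐ[K] _).toAlgHom.toMonoidHom.comp α

theorem rp_apply (α : P →* Matrix n n K) (g : P) : rp α g = Matrix.toLin' (α g) := rfl

theorem hm_rp (α β : P →* Matrix n n K) :
    hm K (MonoidAlgebra K P) (rp α).asModule (rp β).asModule = finrank K (It α β) := by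
  refine (Representation.IntertwiningMap.equivLinearMapAsModule _ _).finrank_eq.symm.trans
    (LinearEquiv.finrank_eq ?_).symm
  exact
    { toFun := fun X => ⟨Matrix.toLin' X.1, fun g => by
        rw [rp_apply, rp_apply, ← Matrix.toLin'_mul, ← Matrix.toLin'_mul, X.2 g]⟩
      invFun := fun f => ⟨LinearMap.toMatrix' f.toLinearMap, fun g => Matrix.toLin'.injective (by
        rw [Matrix.toLin'_mul, Matrix.toLin'_mul, Matrix.toLin'_toMatrix']
        exact (f.2 g).symm)⟩
      map_add' := fun X Y => Representation.IntertwiningMap.ext (map_add _ _ _)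
      map_smul' := fun c X => Representation.IntertwiningMap.ext (map_smul Matrix.toLin' c X.1)
      left_inv := fun X => Subtype.ext (LinearMap.toMatrix'_toLin' _)
      right_inv := fun f => Representation.IntertwiningMap.ext (Matrix.toLin'_toMatrix' _) }

/-- conjugate representations -/
def Sim (α β : P →* Matrix n n R) : Prop := ∃ g : GL n R, ∀ x, β x * g = g * α x

theorem sim_of_dim [Finite P] (h0 : (Nat.card P : K) ≠ 0) {α β : P →* Matrix n n K}
    (h : finrank K (It α α) + finrank K (It β β) = finrank K (It α β) + finrank K (It β α)) : Sim α β := by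
  haveI : NeZero (Nat.card P : K) := ⟨h0⟩
  simp only [← hm_rp] at h
  obtain ⟨e⟩ := iso_of_hm (K := K) (A := MonoidAlgebra K P) _ (rp α).asModule (rp β).asModule rfl h
  let f : (n → K) ≃ₗ[K] (n → K) := ((rp α).asModuleEquiv.symm.trans (e.restrictScalars K)).trans (rp β).asModuleEquiv
  have k : ∀ x v, f (rp α x v) = rp β x (f v) := fun x v => by
    show (rp β).asModuleEquiv (e ((rp α).asModuleEquiv.symm _)) =
      rp β x ((rp β).asModuleEquiv (e ((rp α).asModuleEquiv.symm v)))
    rw [Representation.asModuleEquiv_symm_map_rho, map_smul, Representation.asModuleEquiv_map_smul]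
    simp
  refine ⟨Matrix.GeneralLinearGroup.toLin.symm (LinearMap.GeneralLinearGroup.ofLinearEquiv f), fun x =>
    Matrix.toLin'.injective ?_⟩
  have : Matrix.toLin' (Matrix.GeneralLinearGroup.toLin.symm (LinearMap.GeneralLinearGroup.ofLinearEquiv f) : GL n K).1 =
      f.toLinearMap := Matrix.toLin'_toMatrix' _
  rw [Matrix.toLin'_mul, Matrix.toLin'_mul, this]
  exact LinearMap.ext fun v => (k x v).symm

theorem Sim.dim {α β α' β' : P →* Matrix n n K} (a : Sim α α') (b : Sim β β') :
    finrank K (It α β) = finrank K (It α' β') := by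
  obtain ⟨g, a⟩ := a
  obtain ⟨k, b⟩ := b
  have a' : ∀ x, α x * (g⁻¹ : GL n K) = (g⁻¹ : GL n K) * α' x := fun x => by
    rw [Units.eq_inv_mul_iff_mul_eq, ← mul_assoc, ← a, Units.mul_inv_cancel_right]
  have b' : ∀ x, β x * (k⁻¹ : GL n K) = (k⁻¹ : GL n K) * β' x := fun x => by
    rw [Units.eq_inv_mul_iff_mul_eq, ← mul_assoc, ← b, Units.mul_inv_cancel_right]
  exact LinearEquiv.finrank_eq
    { toFun := fun X => ⟨k * X.1 * (g⁻¹ : GL n K), fun x => by
        rw [← mul_assoc, ← mul_assoc, b, mul_assoc k.1, X.2 x, mul_assoc, mul_assoc, a']; simp only [mul_assoc]⟩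
      invFun := fun X => ⟨(k⁻¹ : GL n K) * X.1 * g, fun x => by
        rw [← mul_assoc, ← mul_assoc, b', mul_assoc k⁻¹.1, X.2 x, mul_assoc, mul_assoc, a]; simp only [mul_assoc]⟩
      map_add' := fun X Y => Subtype.ext (by simp [mul_add, add_mul])
      map_smul' := fun c X => Subtype.ext (by simp)
      left_inv := fun X => Subtype.ext (by simp [mul_assoc])
      right_inv := fun X => Subtype.ext (by simp [mul_assoc]) }

variable [Fintype P]
/-- the averaging operator -/
def av (α β : P →* Matrix n n R) : Matrix n n R →ₗ[R] Matrix n n R :=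
  ∑ g, LinearMap.mulLeft R (β g) ∘ₗ LinearMap.mulRight R (α g⁻¹)

theorem av_apply (α β : P →* Matrix n n R) (X : Matrix n n R) : av α β X = ∑ g, β g * (X * α g⁻¹) := by
  simp [av, LinearMap.sum_apply]

theorem av_mem (α β : P →* Matrix n n R) (X : Matrix n n R) : av α β X ∈ It α β := fun g => by
  rw [av_apply, Finset.mul_sum, Finset.sum_mul, ← Equiv.sum_comp (Equiv.mulLeft g) fun x => β x * (X * α x⁻¹) * α g]
  refine Finset.sum_congr rfl fun x _ => ?_
  simp only [Equiv.coe_mulLeft, map_mul, mul_assoc, mul_inv_rev]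
  rw [← map_mul α g⁻¹, inv_mul_cancel, map_one, mul_one]

theorem av_id {α β : P →* Matrix n n R} {X : Matrix n n R} (h : X ∈ It α β) : av α β X = (Nat.card P : R) • X := by
  rw [av_apply, Finset.sum_congr rfl fun g _ => show β g * (X * α g⁻¹) = X by
    rw [← mul_assoc, h g, mul_assoc, ← map_mul, mul_inv_cancel, map_one, mul_one]]
  simp [Nat.cast_smul_eq_nsmul]

theorem av_char (h0 : (Nat.card P : K) ≠ 0) (α β : P →* Matrix n n K) : (av α β).charpoly =
    (X - C (Nat.card P : K)) ^ finrank K (It α β) * X ^ (Fintype.card (n × n) - finrank K (It α β)) := by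
  have p : LinearMap.IsProj (It α β) ((Nat.card P : K)⁻¹ • av α β) := ⟨fun X => Submodule.smul_mem _ _ (av_mem α β X),
    fun X h => by rw [LinearMap.smul_apply, av_id h, inv_smul_smul₀ h0]⟩
  have e := congrArg ((Nat.card P : K) • ·) p.eq_conj_prodMap
  have d := Submodule.finrank_add_eq_of_isCompl p.isCompl
  rw [finrank_matrix, finrank_self, mul_one, ← Fintype.card_prod] at d
  simp only [smul_inv_smul₀ h0] at e
  rw [← map_smul, show (Nat.card P : K) • LinearMap.prodMap LinearMap.id 0 =
    LinearMap.prodMap (0 - (-(Nat.card P : K)) • (1 : End K (It α β))) 0 from by ext <;> simp] at e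
  rw [e, LinearEquiv.charpoly_conj, LinearMap.charpoly_prodMap, LinearMap.charpoly_sub_smul, LinearMap.charpoly_zero,
    LinearMap.charpoly_zero, ← d]
  simp [sub_eq_add_neg]

/-- change of rings -/
abbrev mp {S : Type*} [CommRing S] (f : R →+* S) (α : P →* Matrix n n R) : P →* Matrix n n S :=
  f.mapMatrix.toMonoidHom.comp α

theorem av_map {S : Type*} [CommRing S] [Nontrivial R] [Nontrivial S] (f : R →+* S) (α β : P →* Matrix n n R) :
    (av (mp f α) (mp f β)).charpoly = (av α β).charpoly.map f := by
  rw [← LinearMap.charpoly_toMatrix _ (Matrix.stdBasis S n n), ← LinearMap.charpoly_toMatrix _ (Matrix.stdBasis R n n),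
    ← Matrix.charpoly_map]
  congr 1
  ext i j
  have : ∀ X, av (mp f α) (mp f β) (f.mapMatrix X) = f.mapMatrix (av α β X) := fun X => by
    simp only [av_apply, map_sum, map_mul]; rfl
  obtain ⟨a, b⟩ := j
  simp only [Matrix.map_apply, LinearMap.toMatrix_apply, Matrix.stdBasis_eq_single]
  rw [show (Matrix.single a b 1 : Matrix n n S) = f.mapMatrix (Matrix.single a b 1) by simp, this]
  simp [Matrix.stdBasis]

theorem pw_inj {a b c d : ℕ} {x : K} (h : x ≠ 0) (e : (X - C x) ^ a * X ^ c = (X - C x) ^ b * X ^ d) : a = b := by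
  have k : ∀ a c, rootMultiplicity x ((X - C x) ^ a * X ^ c) = a := fun a c => by
    rw [mul_comm, rootMultiplicity_mul_X_sub_C_pow (by simp), rootMultiplicity_eq_zero (by simp [h]), zero_add]
  rw [← k a c, e, k]

theorem av_dom [IsDomain R] (h0 : (Nat.card P : R) ≠ 0) (α β : P →* Matrix n n R) :
    ∃ a b, (av α β).charpoly = (X - C (Nat.card P : R)) ^ a * X ^ b := by
  have inj := IsFractionRing.injective R (FractionRing R)
  have e := av_char (K := FractionRing R) (fun e => h0 (inj (by rw [map_natCast, e, map_zero])))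
    (mp (algebraMap R _) α) (mp (algebraMap R _) β)
  rw [av_map] at e
  exact ⟨_, _, map_injective _ inj (e.trans (by
    rw [Polynomial.map_mul, Polynomial.map_pow, Polynomial.map_pow, Polynomial.map_sub, map_X, map_C,
      map_natCast (algebraMap R _)]))⟩

theorem dim_map [IsDomain R] {L : Type*} [Field L] (f : R →+* K) (f' : R →+* L) (h0 : (Nat.card P : K) ≠ 0)
    (h1 : (Nat.card P : L) ≠ 0) (α β : P →* Matrix n n R) :
    finrank K (It (mp f α) (mp f β)) = finrank L (It (mp f' α) (mp f' β)) := by
  obtain ⟨a, b, e⟩ := av_dom (fun e => h0 (by rw [← map_natCast f, e, map_zero])) α β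
  have e0 := av_char h0 (mp f α) (mp f β)
  have e1 := av_char h1 (mp f' α) (mp f' β)
  rw [av_map, e, Polynomial.map_mul, Polynomial.map_pow, Polynomial.map_pow, Polynomial.map_sub, map_X, map_C] at e0 e1
  rw [map_natCast f] at e0
  rw [map_natCast f'] at e1
  rw [← pw_inj h0 e0, pw_inj h1 e1]

omit [Fintype P] in
theorem Sim.map [Finite P] [IsDomain R] {L : Type*} [Field L] (f : R →+* K) (f' : R →+* L) (h0 : (Nat.card P : K) ≠ 0)
    (h1 : (Nat.card P : L) ≠ 0) {α β : P →* Matrix n n R} (h : Sim (mp f α) (mp f β)) : Sim (mp f' α) (mp f' β) := by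
  have := Fintype.ofFinite P
  have r : ∀ γ : P →* Matrix n n K, Sim γ γ := fun γ => ⟨1, fun x => by simp⟩
  refine sim_of_dim h1 ?_
  simp only [← dim_map f f' h0 h1]
  rw [← h.dim h, ← (r _).dim h, ← h.dim (r _)]
end

end CF.FC
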