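/-
Comparing the fusion of two groups with a common Sylow 2-subgroup.
-/
import Cfsg.Agent.Transfer.Alperin
import Cfsg.Prelude.Def_FusionSystem
set_option autoImplicit false
set_option linter.unusedSectionVars false

namespace CF.FC
open Subgroup CF.Transfer Cfsg

variable {M M' G G' H Γ : Type*} [Group M] [Group M'] [Group G] [Group G'] [Group H] [Group Γ]
  {a : M →* G} {b : M →* H}

/-- the pairs in `D` are simultaneously conjugate -/
def Cn (a : M →* G) (D : Set (M × M)) : Prop := ∃ g, ∀ p ∈ D, a p.2 = g * a p.1 * g⁻¹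

/-- the graph of a conjugation -/
def gr (a : M →* G) (g : G) : Subgroup (M × M) where
  carrier := {p | a p.2 = g * a p.1 * g⁻¹}
  one_mem' := by simp
  mul_mem' {p q} h k := by
    show a (p.2 * q.2) = g * a (p.1 * q.1) * g⁻¹
    rw [map_mul, map_mul, show a p.2 = _ from h, show a q.2 = _ from k]; group
  inv_mem' {p} h := by
    show a p.2⁻¹ = g * a p.1⁻¹ * g⁻¹
    rw [map_inv, map_inv, show a p.2 = _ from h]; group

theorem cn_gr (a : M →* G) (g : G) : Cn a (gr a g) := ⟨g, fun _ h => h⟩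

theorem cn_of_sub (h : ∀ D : Subgroup (M × M), Cn a D → Cn b D) (D : Set (M × M)) (k : Cn a D) : Cn b D :=
  let ⟨g, k⟩ := k; let ⟨u, e⟩ := h _ (cn_gr a g); ⟨u, fun p m => e p (k p m)⟩

/-- an embedding onto a Sylow subgroup -/
structure Sy (a : M →* G) : Prop where
  inj : Function.Injective a
  syl : IsSylowIn 2 a.range ⊤

theorem Sy.pg (h : Sy a) : IsPGroup 2 M := h.syl.isPGroup.of_equiv (MonoidHom.ofInjective h.inj).symm

theorem Sy.comp (h : Sy a) (e : M' ≃* M) : Sy (a.comp e.toMonoidHom) :=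
  ⟨h.inj.comp e.injective, by
    rw [MonoidHom.range_comp, MonoidHom.range_eq_top.2 e.surjective, ← MonoidHom.range_eq_map]; exact h.syl⟩

theorem Sy.map [Finite G] (h : Sy a) (e : G ≃* G') : Sy (e.toMonoidHom.comp a) :=
  ⟨e.injective.comp h.inj, by
    have := h.syl.map e.toMonoidHom
    rwa [← MonoidHom.range_comp, map_top_of_surjective _ e.surjective] at this⟩

theorem Sy.equiv [Finite G] {a' : M' →* G} (h : Sy a) (k : Sy a') : Nonempty (M ≃* M') := by
  obtain ⟨g, -, e⟩ := h.syl.exists_cj_eq k.syl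
  exact ⟨(((MonoidHom.ofInjective h.inj).trans (cjEquiv g _)).trans (MulEquiv.subgroupCongr e)).trans
    (MonoidHom.ofInjective k.inj).symm⟩

theorem sy_sylow [Finite G] (S : Sylow 2 G) : Sy (S : Subgroup G).subtype :=
  ⟨subtype_injective _, by rw [range_subtype]; exact isSylowIn_top S⟩

theorem Sy.card [Finite G] (h : Sy a) : ∃ u, Odd u ∧ Nat.card G = Nat.card M * u :=
  ⟨_, Nat.not_even_iff_odd.1 (mt even_iff_two_dvd.1 h.syl.not_dvd), by
    rw [Nat.card_congr (MonoidHom.ofInjective h.inj).toEquiv, card_mul_relIndex le_top, card_top]⟩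

theorem sy_of_card [Finite G] (i : Function.Injective a) (p : IsPGroup 2 M) {u : ℕ} (o : Odd u)
    (c : Nat.card G = Nat.card M * u) : Sy a := by
  refine ⟨i, le_top, p.of_equiv (MonoidHom.ofInjective i), ?_⟩
  haveI := Finite.of_injective a i
  have := card_mul_relIndex (le_top : a.range ≤ ⊤)
  rw [card_top, c, ← Nat.card_congr (MonoidHom.ofInjective i).toEquiv] at this
  rw [Nat.eq_of_mul_eq_mul_left Nat.card_pos this]
  exact mt even_iff_two_dvd.2 (Nat.not_even_iff_odd.2 o)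

/-- same fusion -/
structure Eqv (a : M →* G) (b : M →* H) : Prop where
  l : Sy a
  r : Sy b
  cn : ∀ D, Cn a D ↔ Cn b D

theorem Eqv.symm (h : Eqv a b) : Eqv b a := ⟨h.r, h.l, fun D => (h.cn D).symm⟩

theorem Eqv.comp (h : Eqv a b) (e : M' ≃* M) : Eqv (a.comp e.toMonoidHom) (b.comp e.toMonoidHom) :=
  ⟨h.l.comp e, h.r.comp e, fun D => by
    have k := h.cn (Prod.map e e '' D)
    simp only [Cn, Set.forall_mem_image] at k
    exact k⟩

theorem Eqv.map [Finite G] (h : Eqv a b) (e : G ≃* G') : Eqv (e.toMonoidHom.comp a) b :=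
  ⟨h.l.map e, h.r, fun D => Iff.trans ⟨fun ⟨g, k⟩ => ⟨e.symm g, fun p m => e.injective (by simpa using k p m)⟩,
    fun ⟨g, k⟩ => ⟨e g, fun p m => by simp [k p m]⟩⟩ (h.cn D)⟩

theorem Eqv.sub [Finite G] (h : Eqv a b) (S : Sylow 2 G) : ∃ ι : S →* H, Eqv (S : Subgroup G).subtype ι := by
  obtain ⟨g, -, e⟩ := h.l.syl.exists_cj_eq (isSylowIn_top S)
  have k := h.map (MulAut.conj g)
  have k' := k.comp ((MonoidHom.ofInjective k.l.inj).trans (MulEquiv.subgroupCongr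
    ((MonoidHom.range_comp _ _).trans e))).symm
  refine ⟨_, ?_, k'.r, fun D => ?_⟩
  · exact sy_sylow S
  rw [← k'.cn]
  congr! 2
  ext x
  exact (MonoidHom.apply_ofInjective_symm k.l.inj ⟨x.1, ((MonoidHom.range_comp _ _).trans e).ge x.2⟩).symm

theorem rf_iff [Finite G] [Finite H] (S : Sylow 2 G) (ι : S →* H) : ((groupFusionSystem (S : Subgroup G)).IsRealizedBy ι ∧
    ∃ T : Sylow 2 H, (T : Subgroup H) = ι.range) ↔ Eqv (S : Subgroup G).subtype ι := by
  refine ⟨fun ⟨⟨i, h⟩, T⟩ => ⟨sy_sylow S, ⟨i, isSylowIn_top_iff.2 T⟩, fun D => ⟨fun ⟨g, k⟩ => ?_, fun ⟨g, k⟩ => ?_⟩⟩,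
    fun h => ⟨⟨h.r.inj, fun P l φ m => ?_⟩, isSylowIn_top_iff.1 h.r.syl⟩⟩
  · obtain ⟨u, e⟩ := (h (S ⊓ cj g⁻¹ S) inf_le_left (conjHom _ g) fun x => mem_cj_inv.1 x.2.2).1
      ⟨inf_le_left, fun x => mem_cj_inv.1 x.2.2, g, fun _ => rfl⟩
    refine ⟨u, fun p m => ?_⟩
    have := e ⟨p.1, p.1.2, mem_cj_inv.2 (by rw [← show _ = g * p.1.1 * g⁻¹ from k p m]; exact p.2.2)⟩
    exact (congrArg ι (Subtype.ext (k p m))).trans this
  · let f := ((S : Subgroup G).subtype.comp (.fst _ _)).comp (gr ι g).subtype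
    have j : Function.Injective f := fun x y e => by
      have e1 : x.1.1 = y.1.1 := Subtype.ext e
      exact Subtype.ext (Prod.ext e1 (i (by rw [show ι x.1.2 = _ from x.2, show ι y.1.2 = _ from y.2, e1])))
    obtain ⟨-, -, u, e⟩ := (h f.range (fun _ ⟨x, e⟩ => e ▸ x.1.1.2) ((((S : Subgroup G).subtype.comp (.snd _ _)).comp
      (gr ι g).subtype).comp (MonoidHom.ofInjective j).symm.toMonoidHom) fun x => Subtype.property _).2 ⟨g, fun x => by
        obtain ⟨x, rfl⟩ := (MonoidHom.ofInjective j).surjective x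
        simp only [MonoidHom.comp_apply, MulEquiv.coe_toMonoidHom, MulEquiv.symm_apply_apply]
        exact x.2⟩
    refine ⟨u, fun p m => ?_⟩
    have := e (MonoidHom.ofInjective j ⟨p, k p m⟩)
    simp only [MonoidHom.comp_apply, MulEquiv.coe_toMonoidHom, MulEquiv.symm_apply_apply] at this
    exact this
  · have k := h.cn (Set.range fun x : P => (⟨x, l x.2⟩, ⟨φ x, m x⟩))
    simp only [Cn, Set.forall_mem_range] at k
    exact ⟨fun ⟨_, _, e⟩ => k.1 e, fun e => ⟨l, m, k.2 e⟩⟩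

/-- the graph of an automorphism of odd order -/
def Od (D : Subgroup (M × M)) : Prop :=
  ∃ m, Odd m ∧ ∃ f : M → M, ∀ p ∈ D, f p.1 = p.2 ∧ (p.2, f p.2) ∈ D ∧ f^[m] p.1 = p.1

theorem Od.down [Finite Γ] {D : Subgroup (M × M)} (o : Od D) {κ : G →* Γ} (i : Function.Injective κ)
    (c : ∀ g : Γ, (orderOf g).Coprime 2 → ∃ n z, g = κ n * z ∧ ∀ x, z * κ (a x) = κ (a x) * z)
    (h : Cn (κ.comp a) D) : Cn a D := by
  obtain ⟨m, o, f, k⟩ := o
  obtain ⟨g, h⟩ := h
  have it : ∀ j, ∀ p ∈ D, (f^[j] p.1, f (f^[j] p.1)) ∈ D ∧ κ (a (f^[j] p.1)) = g ^ j * κ (a p.1) * (g ^ j)⁻¹ :=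
    fun j p m => by
    induction j with
    | zero => exact ⟨by rw [Function.iterate_zero_apply, (k p m).1]; exact m, by simp⟩
    | succ j ih =>
      rw [Function.iterate_succ_apply']
      exact ⟨(k _ ih.1).2.1, (h _ ih.1).trans (by rw [MonoidHom.comp_apply, ih.2, pow_succ']; group)⟩
  obtain ⟨y, -, z, -, ⟨r, hy⟩, hz, e, yz⟩ := exists_pPart_pPrimePart (p := 2) (isOfFinOrder_of_finite g)
  obtain ⟨t, ht⟩ : ∃ t, 2 ^ r * t % m = 1 % m := by
    rcases eq_or_ne m 1 with rfl | m1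
    · exact ⟨0, by simp [Nat.mod_one]⟩
    obtain ⟨t, -, ht⟩ := Nat.exists_mul_mod_eq_one_of_coprime (k := m) (n := 2 ^ r)
      (Nat.Coprime.pow_left r (Nat.coprime_two_left.2 o)) (by have := o.pos; omega)
    exact ⟨t, by rw [ht, Nat.mod_eq_of_lt (by have := o.pos; omega)]⟩
  obtain ⟨n, w, e', hw⟩ := c (g ^ (2 ^ r * t)) (by
    rw [e, yz.mul_pow, pow_mul, ← hy, pow_orderOf_eq_one, one_pow, one_mul]
    exact Nat.Coprime.coprime_dvd_left (orderOf_pow_dvd _) hz)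
  refine ⟨n, fun p hp => i ?_⟩
  have pe : Function.IsPeriodicPt f m p.1 := (k p hp).2.2
  have := (it (2 ^ r * t) p hp).2
  rw [← pe.iterate_mod_apply, ht, pe.iterate_mod_apply, Function.iterate_one, (k p hp).1, e'] at this
  rw [this, map_mul, map_mul, map_inv, mul_assoc (κ n), hw]; group

theorem cn_of_od [Finite G] (h : Sy a) (o : ∀ D : Subgroup (M × M), Od D → Cn a D → Cn b D) (D : Set (M × M))
    (k : Cn a D) : Cn b D := by
  classical
  let R : Subgroup G → G → Prop := fun A g => A ≤ a.range ∧ ∃ u, ∀ x, a x ∈ A → ∃ y, a y = g * a x * g⁻¹ ∧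
    b y = u * b x * u⁻¹
  have mul : ∀ A g g', R A g → R (cj g A) g' → R A (g' * g) := fun A g g' ⟨l, u, e⟩ ⟨_, u', e'⟩ =>
    ⟨l, u' * u, fun x m => by
      obtain ⟨y, e1, e2⟩ := e x m
      obtain ⟨y', e3, e4⟩ := e' y (e1 ▸ conj_mem_cj m)
      exact ⟨y', by rw [e3, e1]; group, by rw [e4, e2]; group⟩⟩
  have inv : ∀ A g, R A g → R (cj g A) g⁻¹ := fun A g ⟨l, u, e⟩ => ⟨fun z m => by
      obtain ⟨_, m', rfl⟩ := mem_cj'.1 m
      obtain ⟨x, rfl⟩ := l m'
      exact let ⟨y, e1, _⟩ := e x m'; ⟨y, e1⟩, u⁻¹, fun y m => by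
      obtain ⟨_, m', e0⟩ := mem_cj'.1 m
      obtain ⟨x, rfl⟩ := l m'
      obtain ⟨y', e1, e2⟩ := e x m'
      obtain rfl := h.inj (e1.trans e0)
      exact ⟨x, by rw [e1]; group, by rw [e2]; group⟩⟩
  obtain ⟨g, k⟩ := k
  obtain ⟨-, u, e⟩ := alperin_induction h.syl R (fun A B g l ⟨l', u, e⟩ => ⟨l.trans l', u, fun x m => e x (l m)⟩) mul inv
    (fun U hU _ x hx => by
      let K : Subgroup G :=
        { carrier := {x | x ∈ normalizer (U : Set G) ∧ R U x}
          one_mem' := ⟨one_mem _, hU.1, 1, fun x _ => ⟨x, by simp, by simp⟩⟩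
          mul_mem' := fun {x y} p q => ⟨mul_mem p.1 q.1, mul _ _ _ q.2 (by rw [cj_eq_of_mem_normalizer q.1]; exact p.2)⟩
          inv_mem' := fun {x} p => ⟨inv_mem p.1, cj_eq_of_mem_normalizer p.1 ▸ inv _ _ p.2⟩ }
      obtain ⟨c, hc, _, ⟨⟨s, rfl⟩, hs⟩, rfl⟩ := hU.2.exists_mul_of_coprime_mem (C := K) (fun g hg q => by
        have ex : ∀ x, a x ∈ U → ∃ y, a y = g * a x * g⁻¹ := fun x m => hU.1 (conj_mem_of_mem_normalizer hg.2 m)
        let f : M → M := fun x => if h : ∃ y, a y = g * a x * g⁻¹ then h.choose else x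
        have hf : ∀ x, a x ∈ U → a (f x) = g * a x * g⁻¹ := fun x m => by
          simp only [f, dif_pos (ex x m)]; exact (ex x m).choose_spec
        have it : ∀ j x, a x ∈ U → a (f^[j] x) ∈ U ∧ a (f^[j] x) = g ^ j * a x * (g ^ j)⁻¹ := fun j x m => by
          induction j with
          | zero => exact ⟨m, by simp⟩
          | succ j ih =>
            rw [Function.iterate_succ_apply', hf _ ih.1]
            exact ⟨conj_mem_of_mem_normalizer hg.2 ih.1, by rw [ih.2, pow_succ']; group⟩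
        obtain ⟨u, e⟩ := o (gr a g ⊓ U.comap (a.comp (.fst _ _))) ⟨orderOf g, Nat.coprime_two_right.1 q, f,
          fun p m => by
            have m2 : a p.2 ∈ U := by rw [show a p.2 = _ from m.1]; exact conj_mem_of_mem_normalizer hg.2 m.2
            exact ⟨h.inj ((hf _ m.2).trans m.1.symm), ⟨hf _ m2, m2⟩, h.inj (by simpa using (it (orderOf g) _ m.2).2)⟩⟩
          ⟨g, fun p m => m.1⟩
        exact ⟨hg.2, hU.1, u, fun x m => ⟨f x, hf x m, e (x, f x) ⟨hf x m, m⟩⟩⟩) hx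
      exact (K.mul_mem hc.1 ⟨hs, hU.1, b s, fun x _ => ⟨s * x * s⁻¹, by simp, by simp⟩⟩).2)
    (a.range ⊓ cj g⁻¹ a.range) inf_le_left g trivial (cj_le_iff.2 inf_le_right)
  refine ⟨u, fun p m => ?_⟩
  obtain ⟨y, e1, e2⟩ := e p.1 ⟨⟨_, rfl⟩, mem_cj_inv.2 ⟨_, k p m⟩⟩
  rwa [h.inj (e1.trans (k p m).symm)] at e2

variable {Z : Subgroup M} [Z.Normal]
/-- passage to the central quotient -/
def qt (a : M →* G) (c : ∀ x, a x ∈ center G ↔ x ∈ Z) : M ⧸ Z →* G ⧸ center G :=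
  QuotientGroup.map Z _ a fun x m => (c x).2 m

theorem Sy.qt [Finite G] (h : Sy a) (c : ∀ x, a x ∈ center G ↔ x ∈ Z) : Sy (qt a c) := by
  refine ⟨(injective_iff_map_eq_one _).2 fun x e => ?_, ?_⟩
  · obtain ⟨x, rfl⟩ := QuotientGroup.mk_surjective x
    exact (QuotientGroup.eq_one_iff _).2 ((c x).1 ((QuotientGroup.eq_one_iff _).1 e))
  have := h.syl.map (QuotientGroup.mk' (center G))
  rw [map_top_of_surjective _ (QuotientGroup.mk'_surjective _)] at this
  convert this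
  exact le_antisymm (fun _ ⟨x, e⟩ => by
    obtain ⟨x, rfl⟩ := QuotientGroup.mk_surjective x
    exact ⟨_, ⟨x, rfl⟩, e⟩) fun _ ⟨_, ⟨x, e⟩, e'⟩ => ⟨x, by rw [← e', ← e]; rfl⟩

theorem cn_qt [Finite G] (h : Sy a) (c : ∀ x, a x ∈ center G ↔ x ∈ Z) (c' : ∀ x, b x ∈ center H ↔ x ∈ Z)
    (l : ∀ D, Cn a D → Cn b D) (D : Set ((M ⧸ Z) × (M ⧸ Z))) (k : Cn (qt a c) D) : Cn (qt b c') D := by
  obtain ⟨g, k⟩ := k
  obtain ⟨g, rfl⟩ := QuotientGroup.mk_surjective g
  obtain ⟨u, e⟩ := l _ (cn_gr a g)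
  refine ⟨u, fun ⟨x, y⟩ m => ?_⟩
  obtain ⟨x, rfl⟩ := QuotientGroup.mk_surjective x
  obtain ⟨y, rfl⟩ := QuotientGroup.mk_surjective y
  have z : (a y)⁻¹ * (g * a x * g⁻¹) ∈ center G := QuotientGroup.eq.1 (k _ m)
  obtain ⟨i, hi⟩ := h.pg x
  obtain ⟨j, hj⟩ := h.pg y
  obtain ⟨w, hw⟩ := h.syl.le_of_normalized (Q := zpowers ((a y)⁻¹ * (g * a x * g⁻¹))) (by
    have : Commute (a y) ((a y)⁻¹ * (g * a x * g⁻¹)) := mem_center_iff.1 z _
    have e := this.mul_pow (2 ^ (i + j))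
    rw [mul_inv_cancel_left, conj_pow, ← map_pow, ← map_pow, pow_add, pow_mul, hi, mul_comm (2 ^ i), pow_mul y, hj] at e
    obtain ⟨k, -, e'⟩ := (Nat.dvd_prime_pow Nat.prime_two).1 (orderOf_dvd_of_pow_eq_one (x := (a y)⁻¹ * (g * a x * g⁻¹))
      (n := 2 ^ (j + i)) (by rw [pow_add]; simpa using e.symm))
    exact isPGroup_zpowers e') le_top (fun s _ => centralizer_le_normalizer _ fun t m =>
      (mem_center_iff.1 (zpowers_le.2 z m) s).symm) (mem_zpowers _)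
  have := e (x, y * w) (show a (y * w) = _ by rw [map_mul, hw, mul_inv_cancel_left])
  show ((b y : H) : H ⧸ center H) = ((u * b x * u⁻¹ : H) : H ⧸ center H)
  exact QuotientGroup.eq.2 (by rw [← show b (y * w) = _ from this, map_mul, inv_mul_cancel_left, c', ← c, hw]; exact z)

/-- a realization of a fusion pattern -/
structure Re (Fz : Subgroup (M × M) → Prop) (Z : Subgroup M) (a : M →* G) : Prop extends Sy a where
  up : ∀ D : Subgroup (M × M), Cn a D → Fz D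
  down : ∀ D : Subgroup (M × M), Od D → Fz D → Cn a D
  cen : ∀ x, a x ∈ center G ↔ x ∈ Z

theorem Re.eqv [Finite G] [Finite H] {Fz : Subgroup (M × M) → Prop} (h : Re Fz Z a) (k : Re Fz Z b) :
    Eqv (qt a h.cen) (qt b k.cen) :=
  ⟨h.toSy.qt _, k.toSy.qt _, fun D =>
    ⟨cn_qt h.toSy _ _ (cn_of_od h.toSy fun D o c => k.down D o (h.up D c)) D,
     cn_qt k.toSy _ _ (cn_of_od k.toSy fun D o c => h.down D o (k.up D c)) D⟩⟩

end CF.FC
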