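/-
A monomial model for the Sylow 2-subgroups of linear and unitary groups of dimension at most five.
-/
import Mathlib
set_option autoImplicit false
set_option linter.unusedSectionVars false
set_option maxRecDepth 100000

namespace CF.FC
open Equiv Subgroup

/-- exponents -/
abbrev Zr (r : ℕ) := ZMod (2 ^ (r + 3))
/-- the element of order four -/
def zf (r : ℕ) : Zr r := 2 ^ (r + 1)
/-- the element of order two -/
def zh (r : ℕ) : Zr r := 2 ^ (r + 2)
/-- the power map -/
def ka (r : ℕ) (e : Bool) : Zr r := zh r + cond e (-1) 1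
/-- the twisting permutation -/
def tw (n : ℕ) (e : Bool) : Perm (Fin n) := cond e Fin.revPerm 1

variable {n r : ℕ} {e : Bool}
theorem pw0 : (2 : Zr r) ^ (r + 3) = 0 := by exact_mod_cast ZMod.natCast_self (2 ^ (r + 3))
theorem two_f : 2 * zf r = zh r := by rw [zf, zh]; ring
theorem two_h : 2 * zh r = 0 := by rw [zh, ← pw0]; ring
theorem h_f : zh r * zf r = 0 := by rw [zf]; linear_combination 2 ^ r * two_h (r := r)
theorem h_h : zh r * zh r = 0 := by rw [← two_f, mul_assoc, mul_comm (zf r), two_f, h_f, mul_zero]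
theorem pw_ne {k : ℕ} (h : k < r + 3) : (2 : Zr r) ^ k ≠ 0 := fun e =>
  absurd (Nat.le_of_dvd (by positivity) ((ZMod.natCast_eq_zero_iff (2 ^ k) _).1 (by exact_mod_cast e)))
    (not_le.2 (Nat.pow_lt_pow_right one_lt_two h))
theorem h_ne : zh r ≠ 0 := pw_ne (by omega)
theorem ka_sq : ka r e * ka r e = 1 := by
  cases e <;> simp only [ka, cond]
  · linear_combination h_h + two_h
  · linear_combination h_h - two_h
theorem ka_h : ka r e * zh r = zh r := by
  cases e <;> simp only [ka, cond]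
  · linear_combination h_h
  · linear_combination h_h - two_h
theorem two_iff {s : Zr r} : 2 * s = 0 ↔ s = 0 ∨ s = zh r := by
  refine ⟨fun h => ?_, fun h => h.elim (fun h => by simp [h]) fun h => h ▸ two_h⟩
  obtain ⟨c, hc⟩ : 2 ^ (r + 2) ∣ s.val := Nat.dvd_of_mul_dvd_mul_left two_pos (by
    rw [← pow_succ', ← ZMod.natCast_eq_zero_iff]; simpa using h)
  have := ZMod.val_lt s
  rw [hc, pow_succ _ (r + 2)] at this
  have : c < 2 := lt_of_mul_lt_mul_left this (by positivity)
  rw [← ZMod.natCast_zmod_val s, hc]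
  interval_cases c <;> simp [zh]
theorem h_mul (s : Zr r) : zh r * s = 0 ∨ zh r * s = zh r := two_iff.1 (by rw [← mul_assoc, two_h, zero_mul])
theorem odd_cancel {m : ℕ} (o : Odd m) {s : Zr r} (h : m * s = 0) : s = 0 :=
  ((ZMod.isUnit_iff_coprime m _).2 (o.coprime_two_right.pow_right _)).mul_right_eq_zero.1 h
theorem fix_t {s : Zr r} : s = ka r true * s ↔ 2 * s = 0 := by
  refine ⟨fun h => ?_, fun h => by rcases two_iff.1 h with rfl | rfl <;> simp [ka_h]⟩
  simp only [ka, cond] at h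
  have k : 2 * (2 * s) = 0 := by linear_combination 2 * h + s * two_h
  rw [zh] at h
  linear_combination h + 2 ^ r * k
theorem fix_f {s : Zr r} : s = ka r false * s ↔ zh r * s = 0 := by
  simp only [ka, cond]; constructor <;> intro h <;> linear_combination -h
theorem card_ann {k : ℕ} (h : k ≤ r + 3) : Nat.card {s : Zr r // 2 ^ k * s = 0} = 2 ^ k := by
  have := IsAddCyclic.card_nsmulAddMonoidHom_ker (Zr r) (2 ^ k)
  rw [Nat.card_zmod, Nat.gcd_eq_right (pow_dvd_pow 2 h)] at this
  rw [← this]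
  exact Nat.card_congr (subtypeEquivRight fun s => by simp)

/-- monomial matrices -/
@[ext] structure Mo (n r : ℕ) where
  /-- exponents -/
  t : Fin n → Zr r
  /-- permutation -/
  π : Perm (Fin n)

namespace Mo
instance instMul : Mul (Mo n r) := ⟨fun x y => ⟨fun i => x.t i + y.t (x.π.symm i), x.π * y.π⟩⟩
instance instOne : One (Mo n r) := ⟨⟨fun _ => 0, 1⟩⟩
instance instInv : Inv (Mo n r) := ⟨fun x => ⟨fun i => -x.t (x.π i), x.π⁻¹⟩⟩
@[simp] theorem mul_t (x y : Mo n r) (i : Fin n) : (x * y).t i = x.t i + y.t (x.π.symm i) := rfl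
@[simp] theorem mul_π (x y : Mo n r) : (x * y).π = x.π * y.π := rfl
@[simp] theorem one_t (i : Fin n) : (1 : Mo n r).t i = 0 := rfl
@[simp] theorem one_π : (1 : Mo n r).π = 1 := rfl
@[simp] theorem inv_t (x : Mo n r) (i : Fin n) : x⁻¹.t i = -x.t (x.π i) := rfl
@[simp] theorem inv_π (x : Mo n r) : x⁻¹.π = x.π⁻¹ := rfl
instance instGroup : Group (Mo n r) := Group.ofLeftAxioms
  (fun x y z => Mo.ext (funext fun i => by simp [add_assoc, Perm.mul_def]) (mul_assoc _ _ _))
  (fun x => Mo.ext (funext fun i => by simp [Perm.one_def]) (one_mul _))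
  (fun x => Mo.ext (funext fun i => by simp [Perm.inv_def]) (inv_mul_cancel _))
/-- coordinates -/
def eqv : Mo n r ≃ (Fin n → Zr r) × Perm (Fin n) := ⟨fun x => (x.t, x.π), fun p => ⟨p.1, p.2⟩, fun _ => rfl, fun _ => rfl⟩
instance instFinite : Finite (Mo n r) := .of_equiv _ eqv.symm
theorem pow_π (x : Mo n r) (k : ℕ) : (x ^ k).π = x.π ^ k := by
  induction k with
  | zero => rfl
  | succ k ih => rw [pow_succ, pow_succ, mul_π, ih]
theorem pow_t {x : Mo n r} (h : x.π = 1) (k : ℕ) (i : Fin n) : (x ^ k).t i = k * x.t i := by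
  induction k with
  | zero => simp
  | succ k ih => rw [pow_succ', mul_t, h, show (1 : Perm (Fin n)).symm i = i from rfl, ih]; push_cast; ring
end Mo

/-- the sign -/
def sg (r : ℕ) (π : Perm (Fin n)) : Zr r := if Perm.sign π = 1 then 0 else zh r
theorem sg_mul (π σ : Perm (Fin n)) : sg r (π * σ) = sg r π + sg r σ := by
  simp only [sg, map_mul]
  rcases Int.units_eq_one_or (Perm.sign π) with h | h <;> rcases Int.units_eq_one_or (Perm.sign σ) with k | k <;>
    simp [h, k, ← two_mul, two_h]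
theorem ka_sg (π : Perm (Fin n)) : ka r e * sg r π = sg r π := by unfold sg; split_ifs <;> simp [ka_h]

/-- the determinant -/
def dt : Mo n r →* Multiplicative (Zr r) := MonoidHom.mk' (fun x => .ofAdd (∑ i, x.t i + sg r x.π)) fun x y => by
  rw [← ofAdd_add, Mo.mul_π, sg_mul]
  simp only [Mo.mul_t, Finset.sum_add_distrib, Equiv.sum_comp x.π.symm y.t]
  congr 1; ring

/-- the model in the general linear group -/
def Ms (n r : ℕ) (e : Bool) : Subgroup (Mo n r) where
  carrier := {x | x.π * Fin.revPerm = Fin.revPerm * x.π ∧ ∀ i, x.t (tw n e i) = ka r e * x.t i}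
  one_mem' := ⟨by simp, by simp⟩
  mul_mem' {x y} h k := ⟨Commute.mul_left h.1 k.1, fun i => by
    have : Commute x.π⁻¹ (tw n e) := by
      cases e
      exacts [.one_right _, Commute.inv_left h.1]
    rw [Mo.mul_t, Mo.mul_t, h.2, mul_add, ← k.2]
    exact congrArg (_ + y.t ·) (DFunLike.congr_fun this i)⟩
  inv_mem' {x} h := ⟨Commute.inv_left h.1, fun i => by
    have : Commute x.π (tw n e) := by
      cases e
      exacts [.one_right _, h.1]
    rw [Mo.inv_t, Mo.inv_t, mul_neg, ← h.2]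
    exact congrArg (-x.t ·) (DFunLike.congr_fun this i)⟩

/-- the model in the special linear group -/
def M0 (n r : ℕ) (e : Bool) : Subgroup (Mo n r) := Ms n r e ⊓ dt.ker

theorem mem_M0 {x : Mo n r} : x ∈ M0 n r e ↔ (x.π * Fin.revPerm = Fin.revPerm * x.π ∧
    ∀ i, x.t (tw n e i) = ka r e * x.t i) ∧ ∑ i, x.t i + sg r x.π = 0 := Iff.rfl

/-- scalars -/
def Zs (n r : ℕ) : Subgroup (Mo n r) where
  carrier := {x | x.π = 1 ∧ ∀ i j, x.t i = x.t j}
  one_mem' := ⟨rfl, fun _ _ => rfl⟩
  mul_mem' {x y} h k := ⟨by rw [Mo.mul_π, h.1, k.1, one_mul], fun i j => by rw [Mo.mul_t, Mo.mul_t, h.2 i j, k.2]⟩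
  inv_mem' {x} h := ⟨by rw [Mo.inv_π, h.1, inv_one], fun i j => by rw [Mo.inv_t, Mo.inv_t, h.2]⟩

instance Zs_normal : (Zs n r).Normal := ⟨fun x h g => ⟨by simp [h.1], fun i j => by
  simp only [Mo.mul_t, Mo.inv_t, Mo.mul_π, h.1, mul_one, apply_symm_apply, h.2 _ (g.π.symm j)]; ring⟩⟩

/-- the model in the projective group -/
abbrev Mq (n r : ℕ) (e : Bool) := M0 n r e ⧸ (Zs n r).subgroupOf (M0 n r e)

theorem card_fx : Nat.card {s : Zr r // s = ka r e * s} = 2 ^ cond e 1 (r + 2) := by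
  cases e
  · exact (Nat.card_congr (subtypeEquivRight fun s => fix_f)).trans (card_ann (by omega))
  · exact (Nat.card_congr (subtypeEquivRight fun s => by rw [fix_t, pow_one])).trans (card_ann (k := 1) (by omega))

theorem card_T (h2 : 2 ≤ n) (h5 : n ≤ 5) : Nat.card {t : Fin n → Zr r // ∀ i, t (tw n e i) = ka r e * t i} =
    2 ^ cond e ((r + 3) * (n / 2) + n % 2) ((r + 2) * n) := by
  cases e
  · refine (Nat.card_congr (subtypePiEquivPi (p := fun (_ : Fin n) (s : Zr r) => s = ka r false * s))).trans ?_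
    rw [Nat.card_pi, card_fx]
    simp [pow_mul]
  have k : ∀ s, ka r true * (ka r true * s) = s := fun s => by rw [← mul_assoc, ka_sq, one_mul]
  have c := card_fx (r := r) (e := true)
  interval_cases n
  · have p : ∀ a i, ![a, ka r true * a] (tw 2 true i) = ka r true * ![a, ka r true * a] i := fun a i => by
      fin_cases i <;> simp [tw, Fin.rev, k]
    refine (Nat.card_congr (β := Zr r) ⟨fun t => t.1 0, fun a => ⟨_, p a⟩,
      fun t => Subtype.ext (funext fun i => ?_), fun _ => rfl⟩).trans (by simp)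
    fin_cases i; exacts [rfl, (t.2 0).symm]
  · have p : ∀ a b, b = ka r true * b → ∀ i, ![a, b, ka r true * a] (tw 3 true i) =
        ka r true * ![a, b, ka r true * a] i := fun a b h i => by
      fin_cases i <;> simp [tw, Fin.rev, k, ← h]
    refine (Nat.card_congr (β := Zr r × {s : Zr r // s = ka r true * s}) ⟨fun t => (t.1 0, ⟨t.1 1, t.2 1⟩),
      fun a => ⟨_, p a.1 _ a.2.2⟩, fun t => Subtype.ext (funext fun i => ?_),
      fun _ => rfl⟩).trans (by rw [Nat.card_prod, c]; simp [pow_succ])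
    fin_cases i; exacts [rfl, rfl, (t.2 0).symm]
  · have p : ∀ a b i, ![a, b, ka r true * b, ka r true * a] (tw 4 true i) =
        ka r true * ![a, b, ka r true * b, ka r true * a] i := fun a b i => by
      fin_cases i <;> simp [tw, Fin.rev, k]
    refine (Nat.card_congr (β := Zr r × Zr r) ⟨fun t => (t.1 0, t.1 1),
      fun a => ⟨_, p a.1 a.2⟩, fun t => Subtype.ext (funext fun i => ?_),
      fun _ => rfl⟩).trans (by simp [pow_mul, sq])
    fin_cases i; exacts [rfl, rfl, (t.2 1).symm, (t.2 0).symm]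
  · have p : ∀ a b c, c = ka r true * c → ∀ i, ![a, b, c, ka r true * b, ka r true * a] (tw 5 true i) =
        ka r true * ![a, b, c, ka r true * b, ka r true * a] i := fun a b c h i => by
      fin_cases i <;> simp [tw, Fin.rev, k, ← h]
    refine (Nat.card_congr (β := Zr r × Zr r × {s : Zr r // s = ka r true * s})
      ⟨fun t => (t.1 0, t.1 1, ⟨t.1 2, t.2 2⟩), fun a => ⟨_, p a.1 a.2.1 _ a.2.2.2⟩,
      fun t => Subtype.ext (funext fun i => ?_), fun _ => rfl⟩).trans
      (by rw [Nat.card_prod, Nat.card_prod, c]; simp [pow_mul, sq, pow_succ, mul_assoc])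
    fin_cases i; exacts [rfl, rfl, rfl, (t.2 1).symm, (t.2 0).symm]

theorem card_D (h2 : 2 ≤ n) (h5 : n ≤ 5) : Nat.card {π : Perm (Fin n) // π * Fin.revPerm = Fin.revPerm * π} =
    2 ^ (2 * (n / 2) - 1) := by
  rw [Nat.card_eq_fintype_card]
  interval_cases n <;> decide +kernel

theorem card_M0 (h2 : 2 ≤ n) (h5 : n ≤ 5) : Nat.card (M0 n r e) =
    2 ^ (cond e ((r + 3) * (n / 2) + n % 2 - 1) ((r + 2) * (n - 1)) + (2 * (n / 2) - 1)) := by
  have c1 : Nat.card (Ms n r e) = _ := (Nat.card_congr (β := {t : Fin n → Zr r // ∀ i, t (tw n e i) = ka r e * t i} ×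
    {π : Perm (Fin n) // π * Fin.revPerm = Fin.revPerm * π}) ⟨fun x => (⟨x.1.t, x.2.2⟩, ⟨x.1.π, x.2.1⟩),
    fun p => ⟨⟨p.1.1, p.2.1⟩, p.2.2, p.1.2⟩, fun _ => rfl, fun _ => rfl⟩).trans (Nat.card_prod _ _)
  rw [card_T h2 h5, card_D h2 h5] at c1
  have c2 := card_eq_card_quotient_mul_card_subgroup (dt.comp (Ms n r e).subtype).ker
  rw [Nat.card_congr (QuotientGroup.quotientKerEquivRange _).toEquiv, c1, ← MonoidHom.comap_ker, ← subgroupOf,
    ← inf_subgroupOf_left, Nat.card_congr (subgroupOfEquivOfLe inf_le_left).toEquiv,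
    Nat.card_congr (β := {s : Zr r // s = ka r e * s}) (subtypeEquiv Multiplicative.toAdd fun s => ?_), card_fx] at c2
  · refine Nat.eq_of_mul_eq_mul_left (by positivity) (c2.symm.trans ?_)
    rw [← pow_add, ← pow_add]
    cases e <;> interval_cases n <;> simp <;> omega
  refine ⟨fun ⟨x, h⟩ => ?_, fun h => ?_⟩
  · rw [← h]
    show _ + _ = ka r e * (_ + _)
    simp only [mul_add, ka_sg, Finset.mul_sum, ← x.2.2, coe_subtype]
    rw [Equiv.sum_comp (tw n e) x.1.t]
  obtain ⟨m, rfl⟩ : ∃ m, n = m + 2 := ⟨n - 2, by omega⟩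
  cases e
  · exact ⟨⟨⟨Pi.single 0 s.toAdd, 1⟩, by simp, fun i => by
      rcases eq_or_ne i 0 with rfl | k
      exacts [by simpa [tw] using h, by simp [tw, k]]⟩, Multiplicative.toAdd.injective (by simp [dt, sg, -ofAdd_sum])⟩
  rcases two_iff.1 (fix_t.1 h) with k | k
  · exact ⟨1, by rw [map_one]; exact Multiplicative.toAdd.injective k.symm⟩
  have ne : (0 : Fin (m + 2)) ≠ Fin.last _ := by simp [Fin.ext_iff]
  refine ⟨⟨⟨Pi.single 0 1 + Pi.single (Fin.last _) (ka r true), 1⟩, by simp, fun i => ?_⟩,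
    Multiplicative.toAdd.injective (by simp [dt, sg, Finset.sum_add_distrib, k, ka, -ofAdd_sum])⟩
  simp only [tw, cond, Fin.revPerm_apply, Pi.add_apply, Pi.single_apply, Fin.rev_eq_iff, Fin.rev_zero, Fin.rev_last]
  clear c1 c2 h k
  split_ifs <;> simp_all [ka_sq]

theorem card_Z (h2 : 2 ≤ n) (h5 : n ≤ 5) : Nat.card ((Zs n r).subgroupOf (M0 n r e)) =
    2 ^ (if n % 2 = 1 then 0 else if n = 4 ∧ e = false then 2 else 1) := by
  obtain ⟨m, rfl⟩ : ∃ m, n = m + 2 := ⟨n - 2, by omega⟩
  rw [Nat.card_congr (β := {s : Zr r // s = ka r e * s ∧ ((m + 2 : ℕ) : Zr r) * s = 0}) ⟨fun x => ⟨x.1.1.t 0,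
    (x.2.2 _ _).trans (x.1.2.1.2 0), by
      have : ∑ i, x.1.1.t i + sg r x.1.1.π = 0 := x.1.2.2
      rw [Finset.sum_congr rfl fun i _ => show x.1.1.t i = x.1.1.t 0 from x.2.2 i 0, show x.1.1.π = 1 from x.2.1] at this
      simpa [sg] using this⟩, fun s => ⟨⟨⟨fun _ => s, 1⟩, mem_M0.2 ⟨⟨by simp, fun _ => s.2.1⟩, by simpa [sg] using s.2.2⟩⟩,
    rfl, fun _ _ => rfl⟩, fun x => Subtype.ext (Subtype.ext (Mo.ext (funext fun i => x.2.2 _ _) x.2.1.symm)),
    fun _ => rfl⟩]
  refine (Nat.card_congr (subtypeEquivRight fun s => ?_)).trans (card_ann (r := r) (by split_ifs <;> omega))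
  have k : 2 * s = 0 → s = ka r e * s := fun h => by rcases two_iff.1 h with rfl | rfl <;> simp [ka_h]
  have : m ≤ 3 := by omega
  interval_cases m
  · simpa using k
  · simpa using ⟨fun h => odd_cancel (m := 3) (by decide) h.2, fun h => by simp [h]⟩
  · cases e
    · simp only [fix_f]
      norm_num
      exact fun h => by rw [zh]; linear_combination 2 ^ r * h
    · simp only [fix_t]
      norm_num
      exact fun h => by linear_combination 2 * h
  · simpa using ⟨fun h => odd_cancel (m := 5) (by decide) h.2, fun h => by simp [h]⟩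

/-- the exponent of the order -/
def vq (n r : ℕ) (e : Bool) : ℕ :=
  if n = 2 then r + 2 else if n = 3 then cond e (r + 4) (2 * r + 5) else if n = 4 then cond e (2 * r + 7) (3 * r + 7)
  else cond e (2 * r + 9) (4 * r + 11)

theorem card_Mq (h2 : 2 ≤ n) (h5 : n ≤ 5) : Nat.card (Mq n r e) = 2 ^ vq n r e := by
  have := card_eq_card_quotient_mul_card_subgroup ((Zs n r).subgroupOf (M0 n r e))
  rw [card_Z h2 h5, card_M0 h2 h5] at this
  refine Nat.eq_of_mul_eq_mul_right (by positivity) (this.symm.trans ?_)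
  rw [← pow_add]
  cases e <;> interval_cases n <;> simp [vq] <;> omega

end CF.FC
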