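/-
Realizing the monomial model in matrix groups.
-/
import Cfsg.Agent.FC.A
import Cfsg.Agent.FC.B
import Cfsg.Agent.FC.C
set_option autoImplicit false
set_option linter.unusedSectionVars false

namespace CF.FC
open Equiv Subgroup Matrix Polynomial

variable {n r : ℕ} {e : Bool} {R S E : Type*} [CommRing R] [CommRing S] [Field E]

/-- monomial matrices -/
def mat (χ : AddChar (Zr r) R) : Mo n r →* Matrix (Fin n) (Fin n) R where
  toFun x := of fun i j => if i = x.π j then χ (x.t i) else 0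
  map_one' := by ext i j; simp [one_apply]
  map_mul' x y := by
    ext i j
    simp only [of_apply, mul_apply, mul_ite, mul_zero, Finset.sum_ite_eq', Finset.mem_univ, if_true, Mo.mul_π, Mo.mul_t,
      Perm.mul_apply, ite_mul, zero_mul]
    by_cases h : i = x.π (y.π j) <;> simp [h, AddChar.map_add_eq_mul]

theorem mat_apply (χ : AddChar (Zr r) R) (x : Mo n r) (i j : Fin n) :
    mat χ x i j = if i = x.π j then χ (x.t i) else 0 := rfl

theorem mat_map {χ : AddChar (Zr r) R} {χ' : AddChar (Zr r) S} (f : R →+* S) {x y : Mo n r} (h : x.π = y.π)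
    (k : ∀ i, f (χ (x.t i)) = χ' (y.t i)) : (mat χ x).map f = mat χ' y := by
  ext i j
  simp only [map_apply, mat_apply, apply_ite f, map_zero, h, k]

theorem mat_tr (χ : AddChar (Zr r) R) (x : Mo n r) : (mat χ ⟨fun i => -x.t i, x.π⟩)ᵀ = mat χ x⁻¹ := by
  ext i j
  simp only [transpose_apply, mat_apply, Mo.inv_π, Mo.inv_t, Perm.eq_inv_iff_eq, @eq_comm _ j]
  split_ifs with h
  · rw [h]
  · rfl

theorem det_mat {χ : AddChar (Zr r) R} (h : χ (zh r) = -1) (x : Mo n r) : (mat χ x).det = χ (dt x).toAdd := by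
  have : mat χ x = (diagonal fun i => χ (x.t i)).submatrix id x.π := by
    ext i j; simp [mat_apply, diagonal_apply]
  have k : ∀ s : Finset (Fin n), ∏ i ∈ s, χ (x.t i) = χ (∑ i ∈ s, x.t i) := fun s => by
    induction s using Finset.induction_on with
    | empty => simp
    | insert a s h ih => rw [Finset.prod_insert h, Finset.sum_insert h, ih, AddChar.map_add_eq_mul]
  rw [this, det_permute', det_diagonal, k]
  show _ = χ (_ + sg r _)
  rw [AddChar.map_add_eq_mul, mul_comm, sg]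
  rcases Int.units_eq_one_or (Perm.sign x.π) with k | k <;> simp [k, h]

theorem diag_mat (χ : AddChar (Zr r) R) {v : Fin n → R} {x : Mo n r} (h : ∀ i, v (x.π i) = v i) :
    diagonal v * mat χ x = mat χ x * diagonal v := by
  ext i j
  simp only [diagonal_mul, mul_diagonal, mat_apply]
  split_ifs with k
  · rw [mul_comm, k, h]
  · simp

theorem chi_inj {χ : AddChar (Zr r) E} (h : χ (zh r) = -1) (h2 : (2 : E) ≠ 0) : Function.Injective χ := by
  have k : ∀ m : ℕ, χ m = χ 1 ^ m := fun m => by rw [← AddChar.map_nsmul_eq_pow, nsmul_one]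
  have o : orderOf (χ 1) = 2 ^ (r + 3) := orderOf_eq_prime_pow (fun e => h2 (by
    rw [← k, Nat.cast_pow, Nat.cast_two, ← zh, h] at e; linear_combination -e)) (by
    rw [← k, ZMod.natCast_self, AddChar.map_zero_eq_one])
  intro a b e
  rw [← ZMod.natCast_zmod_val a, ← ZMod.natCast_zmod_val b, k, k] at e
  exact ZMod.val_injective _ (pow_injOn_Iio_orderOf ((ZMod.val_lt a).trans_eq o.symm) ((ZMod.val_lt b).trans_eq o.symm) e)

theorem chi_ne (χ : AddChar (Zr r) E) (s : Zr r) : χ s ≠ 0 := fun e => by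
  simpa [e] using (χ.map_add_eq_mul s (-s)).symm

theorem mat_scalar {χ : AddChar (Zr r) E} (h : χ (zh r) = -1) (h2 : (2 : E) ≠ 0) {x : Mo n r} {s : E}
    (k : mat χ x = scalar _ s) : x ∈ Zs n r := by
  have k1 : ∀ j, x.π j = j ∧ χ (x.t (x.π j)) = s := fun j => by
    have := congrFun₂ k (x.π j) j
    rw [mat_apply, if_pos rfl, scalar_apply, diagonal_apply] at this
    split_ifs at this with q
    exacts [⟨q, this⟩, absurd this (chi_ne _ _)]
  exact ⟨Perm.ext fun j => (k1 j).1, fun i j => chi_inj h h2 (by rw [← (k1 i).1, (k1 i).2, ← (k1 j).1, (k1 j).2])⟩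

theorem mat_Zs (χ : AddChar (Zr r) R) {x : Mo n r} (h : x ∈ Zs n r) (i : Fin n) : mat χ x = scalar _ (χ (x.t i)) := by
  ext a b
  simp [mat_apply, h.1, diagonal_apply, h.2 _ i]

/-- the universal ring -/
abbrev R0 (r : ℕ) := AdjoinRoot (cyclotomic (2 ^ (r + 3)) ℤ)
instance R0_dom : IsDomain (R0 r) := AdjoinRoot.isDomain_of_prime (cyclotomic.irreducible (by positivity)).prime
theorem cyc_eq : cyclotomic (2 ^ (r + 3)) ℤ = 1 + X ^ 2 ^ (r + 2) := by
  rw [cyclotomic_prime_pow_eq_geom_sum Nat.prime_two]; simp [Finset.sum_range_succ]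
theorem pow_N {ω : R} (h : ω ^ 2 ^ (r + 2) = -1) : ω ^ 2 ^ (r + 3) = 1 := by rw [pow_succ 2, pow_mul, h]; simp
theorem root_h : AdjoinRoot.root (cyclotomic (2 ^ (r + 3)) ℤ) ^ 2 ^ (r + 2) = -1 := by
  have := AdjoinRoot.eval₂_root (cyclotomic (2 ^ (r + 3)) ℤ)
  have e := congrArg (eval₂ (AdjoinRoot.of _) (AdjoinRoot.root (cyclotomic (2 ^ (r + 3)) ℤ))) (cyc_eq (r := r))
  rw [this, eval₂_add, eval₂_one, eval₂_X_pow] at e
  linear_combination -e
/-- the character with a given value at one -/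
def ch {ω : R} (h : ω ^ 2 ^ (r + 2) = -1) : AddChar (Zr r) R := AddChar.zmodChar _ (pow_N h)
theorem ch_h {ω : R} (h : ω ^ 2 ^ (r + 2) = -1) : ch h (zh r) = -1 := by
  rw [← h, ← AddChar.zmodChar_apply' (pow_N h)]; simp [ch, zh]
/-- the universal representation -/
noncomputable def rho (n r : ℕ) (e : Bool) : M0 n r e →* Matrix (Fin n) (Fin n) (R0 r) :=
  (mat (ch root_h)).comp (M0 n r e).subtype
/-- the fusion pattern -/
def Fz (n r : ℕ) (e : Bool) (D : Subgroup (M0 n r e × M0 n r e)) : Prop :=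
  Sim (mp (algebraMap _ (FractionRing (R0 r))) ((rho n r e).comp ((MonoidHom.fst _ _).comp D.subtype)))
    (mp (algebraMap _ (FractionRing (R0 r))) ((rho n r e).comp ((MonoidHom.snd _ _).comp D.subtype)))

theorem card_ne (h2 : 2 ≤ n) (h5 : n ≤ 5) (h : (2 : E) ≠ 0) (D : Subgroup (M0 n r e × M0 n r e)) :
    (Nat.card D : E) ≠ 0 := by
  have := card_subgroup_dvd_card D
  rw [Nat.card_prod, card_M0 h2 h5, ← pow_add] at this
  obtain ⟨k, -, e⟩ := (Nat.dvd_prime_pow Nat.prime_two).1 this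
  simp [e, h]

theorem fz_iff (h2 : 2 ≤ n) (h5 : n ≤ 5) {χ : AddChar (Zr r) E} (h : χ (zh r) = -1) (k : (2 : E) ≠ 0)
    (D : Subgroup (M0 n r e × M0 n r e)) :
    Fz n r e D ↔ ∃ g : GL (Fin n) E, ∀ p ∈ D, mat χ p.2.1 * g = g * mat χ p.1.1 := by
  have c : ∀ m : ℕ, χ m = χ 1 ^ m := fun m => by rw [← AddChar.map_nsmul_eq_pow, nsmul_one]
  let f : R0 r →+* E := AdjoinRoot.lift (Int.castRingHom E) (χ 1) (by
    rw [cyc_eq]; simp [← c, ← zh.eq_1, h])
  have hf : ∀ x : Mo n r, (mat (ch root_h) x).map f = mat χ x := fun x => mat_map f rfl fun i => by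
    rw [ch, AddChar.zmodChar_apply, map_pow, AdjoinRoot.lift_root, ← c, ZMod.natCast_zmod_val]
  have k' : (2 : FractionRing (R0 r)) ≠ 0 := fun e => k (by
    rw [← map_ofNat f, IsFractionRing.injective (R0 r) (FractionRing (R0 r)) (a₁ := 2) (a₂ := 0)
      (by rw [map_ofNat, e, map_zero]), map_zero])
  refine ⟨fun s => ?_, fun ⟨g, s⟩ => Sim.map f _ (card_ne h2 h5 k D) (card_ne h2 h5 k' D) ⟨g, fun p => ?_⟩⟩
  · obtain ⟨g, s⟩ := Sim.map _ f (card_ne h2 h5 k' D) (card_ne h2 h5 k D) s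
    exact ⟨g, fun p m => by rw [← hf, ← hf]; exact s ⟨p, m⟩⟩
  · have := s p.1 p.2
    rw [← hf, ← hf] at this
    exact this

/-- the twisting element -/
def wm (n r : ℕ) (e : Bool) : Mo n r := ⟨fun _ => 0, tw n e⟩
theorem tw_sq : tw n e * tw n e = 1 := by
  cases e
  exacts [one_mul _, Perm.ext Fin.rev_rev]
theorem wm_sq : wm n r e * wm n r e = 1 := Mo.ext (funext fun _ => add_zero _) tw_sq
theorem wm_mem : wm n r e ∈ Ms n r e := ⟨by cases e <;> simp [wm, tw], fun _ => (mul_zero _).symm⟩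
theorem wm_cj {x : Mo n r} (h : x ∈ Ms n r e) : wm n r e * x * wm n r e = ⟨fun i => ka r e * x.t i, x.π⟩ := by
  have : Commute x.π (tw n e) := by
    cases e
    exacts [.one_right _, h.1]
  refine Mo.ext (funext fun i => ?_) (by simp only [Mo.mul_π, wm]; rw [← this.eq, mul_assoc, tw_sq, mul_one])
  simp only [Mo.mul_t, wm, zero_add, add_zero, ← h.2]
  exact congrArg (x.t <| · i) (inv_eq_of_mul_eq_one_right tw_sq)

variable (χ : AddChar (Zr r) E)
/-- the change of basis -/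
def cm (n : ℕ) (e : Bool) : Matrix (Fin n) (Fin n) E :=
  (2⁻¹ * (1 + χ (zf r))) • 1 + (2⁻¹ * (1 - χ (zf r))) • mat χ (wm n r e)
variable {χ}
theorem W_sq : mat χ (wm n r e) * mat χ (wm n r e) = 1 := by rw [← map_mul, wm_sq, map_one]
theorem i_sq (h : χ (zh r) = -1) : χ (zf r) * χ (zf r) = -1 := by rw [← AddChar.map_add_eq_mul, ← two_mul, two_f, h]
theorem cm_sq (h : χ (zh r) = -1) (k : (2 : E) ≠ 0) : cm χ n e * cm χ n e = mat χ (wm n r e) := by
  have i := i_sq h
  simp only [cm, add_mul, mul_add, smul_mul_smul_comm, W_sq, one_mul, mul_one]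
  match_scalars <;> field_simp
  · linear_combination 2 * i
  · linear_combination -2 * i
theorem cm_W : cm χ n e * mat χ (wm n r e) = mat χ (wm n r e) * cm χ n e := by
  simp [cm, add_mul, mul_add]
theorem cm_inv (h : χ (zh r) = -1) (k : (2 : E) ≠ 0) : cm χ n e * (cm χ n e * mat χ (wm n r e)) = 1 := by
  rw [← mul_assoc, cm_sq h k, W_sq]
theorem cm_inv' (h : χ (zh r) = -1) (k : (2 : E) ≠ 0) : cm χ n e * mat χ (wm n r e) * cm χ n e = 1 := by
  rw [mul_assoc, ← cm_W, cm_inv h k]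
/-- the twisted representation -/
def Ym (h : χ (zh r) = -1) (k : (2 : E) ≠ 0) (e : Bool) : Mo n r →* Matrix (Fin n) (Fin n) E where
  toFun x := cm χ n e * mat χ x * (cm χ n e * mat χ (wm n r e))
  map_one' := by rw [map_one, mul_one, cm_inv h k]
  map_mul' x y := by
    simp only [map_mul, mul_assoc]
    rw [← mul_assoc (cm χ n e) (mat χ (wm n r e)) (cm χ n e * _), ← mul_assoc _ (cm χ n e) (mat χ y * _), cm_inv' h k, one_mul]
theorem Ym_apply (h : χ (zh r) = -1) (k : (2 : E) ≠ 0) (x : Mo n r) :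
    Ym h k e x = cm χ n e * mat χ x * (cm χ n e * mat χ (wm n r e)) := rfl
theorem Ym_c (h : χ (zh r) = -1) (k : (2 : E) ≠ 0) (x : Mo n r) : Ym h k e x * cm χ n e = cm χ n e * mat χ x := by
  rw [Ym_apply, mul_assoc, cm_inv' h k, mul_one]

theorem ka_f : ka r true * zf r = zf r + zh r := by simp only [ka, cond]; linear_combination h_f - two_f - two_h

theorem Ym_lin (h : χ (zh r) = -1) (k : (2 : E) ≠ 0) (φ : E →+* E) (hφ : ∀ s, φ (χ s) = χ (ka r e * s)) {x : Mo n r}
    (m : x ∈ Ms n r e) : (Ym h k e x).map φ = Ym h k e x := by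
  have w : (mat χ (wm n r e)).map φ = mat χ (wm n r e) := mat_map φ rfl fun _ => by simp [wm]
  have c : (cm χ n e).map φ = cm χ n e * mat χ (wm n r e) := by
    simp only [cm, add_mul, smul_mul_assoc, W_sq, one_mul]
    rw [Matrix.map_add _ (map_add φ), map_smul' _ _ _ (map_mul φ), map_smul' _ _ _ (map_mul φ), w,
      Matrix.map_one _ (map_zero φ) (map_one φ)]
    simp only [map_mul, map_inv₀, map_ofNat, map_add, map_sub, map_one, hφ]
    cases e
    · rw [show wm n r false = 1 from rfl, map_one]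
      match_scalars; ring
    · rw [ka_f, AddChar.map_add_eq_mul, h]
      match_scalars <;> ring
  rw [Ym_apply, Matrix.map_mul, Matrix.map_mul, Matrix.map_mul, c, w, mat_map φ (y := wm n r e * x * wm n r e)
    (by rw [wm_cj m]) fun i => by rw [wm_cj m, hφ], map_mul, map_mul]
  simp only [mul_assoc, ← mul_assoc (mat χ (wm n r e)) (mat χ (wm n r e)), W_sq, one_mul, mul_one]
  rw [cm_W]

theorem Ym_uni (h : χ (zh r) = -1) (k : (2 : E) ≠ 0) (φ : E →+* E) (hφ : ∀ s, φ (χ s) = χ (-(ka r e * s))) {x : Mo n r}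
    (m : x ∈ Ms n r e) : ((Ym h k e x).map φ)ᵀ * Ym h k e x = 1 := by
  have w : ((mat χ (wm n r e)).map φ)ᵀ = mat χ (wm n r e) := by
    rw [mat_map (χ' := χ) φ (x := wm n r e) (y := ⟨fun i => -(wm n r e).t i, (wm n r e).π⟩) rfl fun _ => by simp [wm], mat_tr,
      inv_eq_of_mul_eq_one_right wm_sq]
  have c : ((cm χ n e).map φ)ᵀ = cm χ n e := by
    simp only [cm]
    rw [Matrix.map_add _ (map_add φ), map_smul' _ _ _ (map_mul φ), map_smul' _ _ _ (map_mul φ), transpose_add,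
      transpose_smul, transpose_smul, w, Matrix.map_one _ (map_zero φ) (map_one φ), transpose_one]
    simp only [map_mul, map_inv₀, map_ofNat, map_add, map_sub, map_one, hφ]
    cases e
    · rw [show wm n r false = 1 from rfl, map_one]
      match_scalars; ring
    · rw [show -(ka r true * zf r) = zf r by simp only [ka, cond]; linear_combination -h_f]
  have X : ((mat χ x).map φ)ᵀ = mat χ (wm n r e) * mat χ x⁻¹ * mat χ (wm n r e) := by
    rw [mat_map φ (y := ⟨fun i => -(wm n r e * x * wm n r e).t i, (wm n r e * x * wm n r e).π⟩) (by rw [wm_cj m])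
      fun i => by rw [wm_cj m, hφ], mat_tr, ← map_mul, ← map_mul, _root_.mul_inv_rev, _root_.mul_inv_rev,
      inv_eq_of_mul_eq_one_right wm_sq, mul_assoc]
  rw [Ym_apply, Matrix.map_mul, Matrix.map_mul, Matrix.map_mul, transpose_mul, transpose_mul, transpose_mul, c, w, X]
  simp only [mul_assoc]
  rw [← mul_assoc (cm χ n e) (cm χ n e), cm_sq h k, ← mul_assoc (mat χ (wm n r e)) (mat χ (wm n r e)), W_sq, one_mul,
    ← mul_assoc (mat χ x⁻¹), ← map_mul, inv_mul_cancel, map_one, one_mul, ← mul_assoc (cm χ n e), ← mul_assoc _ (cm χ n e), cm_inv' h k, one_mul, W_sq]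

theorem exists_v {A : Type*} [CommMonoid A] (h2 : 2 ≤ n) (h5 : n ≤ 5) {d : A} {m : ℕ} (o : Odd m) (h : d ^ m = 1) :
    ∃ v : Fin n → ℕ, ∏ i, d ^ v i = d ∧ ∀ π : Perm (Fin n), π * Fin.revPerm = Fin.revPerm * π → ∀ i, v (π i) = v i := by
  obtain ⟨k, rfl⟩ := o
  have s : ∀ j, d ^ (j * (k + 1) * 2) = d ^ j := fun j => by
    rw [show j * (k + 1) * 2 = (2 * k + 1) * j + j by ring, pow_add, pow_mul, h, one_pow, one_mul]
  have q : ∀ π : Perm (Fin n), π * Fin.revPerm = Fin.revPerm * π → ∀ i, (if (π i).rev = π i then 1 else 0) =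
      if i.rev = i then 1 else 0 := fun π c i => by
    simp only [show (π i).rev = π i.rev from (DFunLike.congr_fun c i).symm, π.injective.eq_iff]
  interval_cases n
  · exact ⟨fun _ => k + 1, by simpa [← pow_mul] using s 1, fun _ _ _ => rfl⟩
  · exact ⟨fun i => if i.rev = i then 1 else 0, by simp [Fin.prod_univ_succ, Fin.rev], q⟩
  · refine ⟨fun _ => (k + 1) * (k + 1), ?_, fun _ _ _ => rfl⟩
    have := (s (1 * (k + 1) * 2)).trans ((s 1).trans (pow_one d))
    simp only [Finset.prod_const, Finset.card_univ, Fintype.card_fin, ← pow_mul]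
    convert this using 2; ring
  · exact ⟨fun i => if i.rev = i then 1 else 0, by simp [Fin.prod_univ_succ, Fin.rev], q⟩

theorem exists_re {N Γ : Type*} [Group N] [Group Γ] [Finite N] [Finite Γ] (h2 : 2 ≤ n) (h5 : n ≤ 5) (h : χ (zh r) = -1)
    (k : (2 : E) ≠ 0) {κ : N →* Γ} (iκ : Function.Injective κ) {j : Γ →* Matrix (Fin n) (Fin n) E}
    (ij : Function.Injective j) (hY : ∀ x ∈ Ms n r e, Ym h k e x ∈ Set.range j)
    (hK : ∀ g, (j g).det = 1 ↔ g ∈ κ.range) {u : ℕ} (o : Odd u) (hS : Nat.card N = Nat.card (M0 n r e) * u)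
    (hG : ∀ (D : Subgroup (M0 n r e × M0 n r e)) (α β : D →* Γ), Sim (j.comp α) (j.comp β) →
      ∃ g, ∀ x, β x * g = g * α x)
    (hO : ∀ g (v : Fin n → ℕ), (diagonal fun i => (j g).det ^ v i) ∈ Set.range j)
    (hC : ∀ y ∈ center N, ∃ s, j (κ y) = scalar _ s) :
    ∃ a : M0 n r e →* N, Re (Fz n r e) ((Zs n r).subgroupOf _) a := by
  have ex : ∀ x : M0 n r e, ∃ y, j (κ y) = Ym h k e x := fun x => by
    obtain ⟨g, hg⟩ := hY x x.2.1
    obtain ⟨y, rfl⟩ := (hK g).1 (by
      rw [hg, Ym_apply, det_mul, det_mul, mul_right_comm, ← det_mul, cm_inv h k, det_one, one_mul, det_mat h,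
        show dt x.1 = 1 from x.2.2]
      exact χ.map_zero_eq_one)
    exact ⟨y, hg⟩
  choose a ha using ex
  let c : GL (Fin n) E := ⟨_, _, cm_inv (n := n) (e := e) h k, cm_inv' h k⟩
  have sc : ∀ {x : Mo n r} {s}, Ym h k e x = scalar _ s ↔ mat χ x = scalar _ s := fun {x s} => by
    rw [← c.mul_left_inj, show _ * c.1 = _ from Ym_c h k x, (scalar_commute s (fun _ => .all _ _) c.1).eq]
    exact c.mul_right_inj
  have fz : ∀ D : Subgroup (M0 n r e × M0 n r e), Fz n r e D ↔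
      ∃ g : GL (Fin n) E, ∀ p ∈ D, j (κ (a p.2)) * g = g * j (κ (a p.1)) := fun D => by
    rw [fz_iff h2 h5 h k]
    refine ((MulAut.conj c).toEquiv.exists_congr fun g => forall₂_congr fun p _ => ?_)
    show _ ↔ _ * (c.1 * g.1 * c⁻¹.1) = c.1 * g.1 * c⁻¹.1 * _
    have y : ∀ x, Ym h k e x = c.1 * mat χ x * c⁻¹.1 := fun _ => rfl
    simp only [ha, y, mul_assoc, Units.inv_mul_cancel_left, Units.mul_right_inj]
    simp only [← mul_assoc, Units.mul_left_inj]
  let A : M0 n r e →* N := MonoidHom.mk' a fun x y => iκ (ij (by simp [ha]))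
  refine ⟨A, sy_of_card ((injective_iff_map_eq_one _).2 fun x q => ?_) (.of_card (card_M0 h2 h5)) o hS,
    fun D ⟨g, q⟩ => (fz D).2 ⟨j.toHomUnits (κ g), fun p m => ?_⟩, fun D od q => od.down iκ (fun g og => ?_) ?_,
    fun x => ⟨fun m => ?_, fun m => mem_center_iff.2 fun g => iκ (ij ?_)⟩⟩
  · have q1 : mat χ x.1 = scalar _ 1 := sc.1 (by rw [← ha, show a x = 1 from q]; simp)
    have q2 := mat_scalar h k q1
    refine Subtype.ext (Mo.ext (funext fun i => chi_inj h k ?_) q2.1)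
    have := congrFun₂ ((mat_Zs χ q2 i).symm.trans q1) i i
    simpa using this
  · rw [show a p.2 = _ from q p m]; simp [← map_mul]; rfl
  · obtain ⟨v, v1, v2⟩ := exists_v h2 h5 (d := (j g).det) (Nat.coprime_two_right.1 og) (by
      rw [← det_pow, ← map_pow, pow_orderOf_eq_one, map_one, det_one])
    obtain ⟨z, hz⟩ := hO g v
    obtain ⟨y, hy⟩ := (hK (g * z⁻¹)).1 (by
      rw [map_mul, det_mul, ← v1, ← det_diagonal, ← hz, ← det_mul, ← map_mul, mul_inv_cancel, map_one, det_one])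
    refine ⟨y, z, by rw [hy, inv_mul_cancel_right], fun x => ij ?_⟩
    have W : Commute (j z) (mat χ (wm n r e)) := hz ▸ diag_mat χ fun i => by rw [v2 _ wm_mem.1]
    have C : Commute (j z) (cm χ n e) := ((Commute.one_right _).smul_right _).add_right (W.smul_right _)
    have X : Commute (j z) (mat χ x.1) := hz ▸ diag_mat χ fun i => by rw [v2 _ x.2.1.1]
    rw [map_mul, map_mul, show j (κ (A x)) = _ from ha x]
    exact (C.mul_right X).mul_right (C.mul_right W)
  · obtain ⟨g, q⟩ := (fz D).1 q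
    obtain ⟨g, q⟩ := hG D (((κ.comp A).comp (.fst _ _)).comp D.subtype) (((κ.comp A).comp (.snd _ _)).comp D.subtype)
      ⟨g, fun p => q p p.2⟩
    exact ⟨g, fun p m => eq_mul_inv_of_mul_eq (q ⟨p, m⟩)⟩
  · obtain ⟨s, q⟩ := hC _ m
    exact mat_scalar h k (sc.1 ((ha x).symm.trans q))
  · rw [map_mul, map_mul, map_mul, map_mul, show j (κ (A x)) = _ from (ha x).trans (sc.2 (mat_Zs χ m ⟨0, by omega⟩))]
    exact (scalar_commute _ (fun _ => .all _ _) _).eq.symm

end CF.FC
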