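/-
The monomial model inside special linear and special unitary groups.
-/
import Cfsg.Agent.FC.D
import Cfsg.Agent.Cls.Norm
import Cfsg.Agent.Geom.Perfect
import Cfsg.Agent.Classical.Linear
set_option autoImplicit false
set_option linter.unusedSectionVars false

namespace CF.FC
open Equiv Subgroup Matrix Cfsg

variable {n r r' : ℕ} {e e' : Bool} {Q : ℤ}

/-- the 2-adic type of an odd integer -/
def Ty (Q : ℤ) (r : ℕ) (e : Bool) : Prop := ∃ u, Odd u ∧ Q = 2 ^ (r + 2) * u + cond e (-1) 1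

theorem Ty.cast (h : Ty Q r e) : (Q : Zr r) = ka r e := by
  obtain ⟨_, ⟨u, rfl⟩, rfl⟩ := h
  cases e <;> simp only [ka, cond, zh] <;> push_cast <;> linear_combination u * pw0 (r := r)

theorem Ty.fac (h : Ty Q r e) : ∃ u v, Odd u ∧ Odd v ∧ Q - 1 = 2 ^ cond e 1 (r + 2) * u ∧
    Q + 1 = 2 ^ cond e (r + 2) 1 * v := by
  obtain ⟨u, o, rfl⟩ := h
  cases e
  · exact ⟨u, 2 * (2 ^ r * u) + 1, o, odd_two_mul_add_one _, by simp, by simp; ring⟩
  · exact ⟨2 * (2 ^ r * u - 1) + 1, u, odd_two_mul_add_one _, o, by simp; ring, by simp⟩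

theorem Ty.odd (h : Ty Q r e) : Odd Q := by
  obtain ⟨u, -, rfl⟩ := h
  cases e
  exacts [⟨2 ^ (r + 1) * u, by simp; ring⟩, ⟨2 ^ (r + 1) * u - 1, by simp; ring⟩]

theorem val_eq {m k : ℕ} {u : ℤ} (o : Odd u) {z : ℤ} (h : z = 2 ^ k * u) (e : z.natAbs = m) : padicValNat 2 m = k := by
  have o' := Int.natAbs_odd.2 o
  rw [← e, h, Int.natAbs_mul, Int.natAbs_pow, padicValNat.mul (by simp) o'.pos.ne', padicValNat.eq_zero_of_not_dvd
    (mt even_iff_two_dvd.2 (Nat.not_even_iff_odd.2 o'))]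
  exact padicValNat.prime_pow k

theorem Ty.vl {q : ℕ} (h : Ty q r e) (q1 : 1 ≤ q) :
    padicValNat 2 (q - 1) = cond e 1 (r + 2) ∧ padicValNat 2 (q + 1) = cond e (r + 2) 1 :=
  let ⟨_, _, o, o', a, b⟩ := h.fac; ⟨val_eq o a (by omega), val_eq o' b (by omega)⟩

theorem Ty.vu {q : ℕ} (h : Ty (-q) r e) (q1 : 1 ≤ q) :
    padicValNat 2 (q + 1) = cond e 1 (r + 2) ∧ padicValNat 2 (q - 1) = cond e (r + 2) 1 :=
  let ⟨_, _, o, o', a, b⟩ := h.fac; ⟨val_eq o a (by omega), val_eq o' b (by omega)⟩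

theorem Ty.neg (h : Ty Q r e) : Ty (-Q) r !e := by
  obtain ⟨u, o, rfl⟩ := h
  exact ⟨-u, o.neg, by cases e <;> simp <;> ring⟩

theorem exists_ty (o : Odd Q) (h : 2 ≤ Q.natAbs) : ∃ r e, Ty Q r e := by
  have k : ∀ Q : ℤ, Q % 4 = 1 → Q ≠ 1 → ∃ r, Ty Q r false := fun Q h h1 => by
    obtain ⟨m, u, o, e⟩ := Nat.exists_eq_two_pow_mul_odd (n := ((Q - 1) / 4).natAbs) (by omega)
    have o' : Odd (u : ℤ) := by exact_mod_cast o
    rcases Int.natAbs_eq_iff.1 e with e | e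
    · exact ⟨m, u, o', by push_cast at e; simp only [cond, pow_add, mul_right_comm _ _ (u : ℤ), ← e]; omega⟩
    · exact ⟨m, -u, o'.neg, by
        push_cast at e; simp only [cond, pow_add, mul_neg, mul_right_comm _ _ (u : ℤ), neg_eq_iff_eq_neg.2 e]; omega⟩
  obtain ⟨t, rfl⟩ := o
  rcases Int.emod_two_eq_zero_or_one t with q | q
  · exact let ⟨r, h⟩ := k _ (by omega) (by omega); ⟨r, _, h⟩
  · obtain ⟨r, h⟩ := k (-(2 * t + 1)) (by omega) (by omega)
    exact ⟨r, _, neg_neg (2 * t + 1) ▸ h.neg⟩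

theorem ty_eq (h : cond e 1 (r + 2) = cond e' 1 (r' + 2) ∧ cond e (r + 2) 1 = cond e' (r' + 2) 1) : r = r' ∧ e = e' := by
  cases e <;> cases e' <;> simp at h ⊢ <;> omega

theorem Ty.prod (h : Ty Q r e) (h2 : 2 ≤ n) (h5 : n ≤ 5) : ∃ u, Odd u ∧
    (∏ i ∈ Finset.range (n - 1), (Q ^ (i + 2) - 1)).natAbs = Nat.card (M0 n r e) * u := by
  obtain ⟨u, v, o, o', a, b⟩ := h.fac
  obtain ⟨t, rfl⟩ := h.odd
  have o3 : Odd ((2 * t + 1) ^ 2 + (2 * t + 1) + 1) := ⟨2 * t ^ 2 + 3 * t + 1, by ring⟩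
  have o4 : Odd (2 * t ^ 2 + 2 * t + 1) := ⟨t ^ 2 + t, by ring⟩
  have o5 : Odd ((2 * t + 1) ^ 4 + (2 * t + 1) ^ 3 + (2 * t + 1) ^ 2 + (2 * t + 1) + 1) :=
    ⟨8 * t ^ 4 + 20 * t ^ 3 + 20 * t ^ 2 + 10 * t + 2, by ring⟩
  have e2 : (2 * t + 1) ^ 2 - 1 = (2 * t + 1 - 1) * (2 * t + 1 + 1) := by ring
  have e3 := (mul_geom_sum (2 * t + 1) 3).symm
  have e4 : (2 * t + 1) ^ 4 - 1 = (2 * t + 1 - 1) * (2 * t + 1 + 1) * 2 * (2 * t ^ 2 + 2 * t + 1) := by ring
  have e5 := (mul_geom_sum (2 * t + 1) 5).symm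
  suffices ∃ w, Odd w ∧ ∏ i ∈ Finset.range (n - 1), ((2 * t + 1) ^ (i + 2) - 1) = Nat.card (M0 n r e) * w by
    obtain ⟨w, o, e⟩ := this
    exact ⟨_, Int.natAbs_odd.2 o, by rw [e, Int.natAbs_mul, Int.natAbs_natCast]⟩
  rw [card_M0 h2 h5, Nat.cast_pow, Nat.cast_two]
  rw [a] at e2 e3 e4 e5
  rw [b] at e2 e4
  interval_cases n
  · exact ⟨_, o.mul o', by cases e <;> simp [e2] <;> ring⟩
  · exact ⟨_, (o.mul o').mul (o.mul o3), by cases e <;> simp [Finset.prod_range_succ, Finset.sum_range_succ, e2, e3] <;> ring⟩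
  · exact ⟨_, ((o.mul o').mul (o.mul o3)).mul ((o.mul o').mul o4), by
      cases e <;> simp [Finset.prod_range_succ, Finset.sum_range_succ, e2, e3, e4,
        show (r + 3) * 2 - 1 = 2 * r + 5 by omega] <;> ring⟩
  · exact ⟨_, (((o.mul o').mul (o.mul o3)).mul ((o.mul o').mul o4)).mul (o.mul o5), by
      cases e <;> simp [Finset.prod_range_succ, Finset.sum_range_succ, e2, e3, e4, e5] <;> ring⟩

theorem abs_prod' (s : Finset ℕ) (f : ℕ → ℤ) : (∏ i ∈ s, f i).natAbs = ∏ i ∈ s, (f i).natAbs := map_prod Int.natAbsHom f s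

variable {F : Type*} [Field F] [Fintype F]

theorem two_ne (o : Odd (Fintype.card F)) : (2 : F) ≠ 0 := fun e => by
  obtain ⟨k, h⟩ := o
  have := FiniteField.cast_card_eq_zero F
  rw [h] at this
  simp [e] at this

theorem card_SL (m : ℕ) : Nat.card (SpecialLinearGroup (Fin (m + 1)) F) =
    Fintype.card F ^ (∑ i ∈ Finset.range (m + 1), i) * ∏ i ∈ Finset.range m, (Fintype.card F ^ (i + 2) - 1) := by
  have h := Classical.card_SL_fin (F := F) (m + 1) m.succ_pos
  rw [Fin.prod_univ_eq_prod_range (fun i => Fintype.card F ^ (m + 1) - Fintype.card F ^ i), Finset.prod_congr rfl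
    (g := fun i => Fintype.card F ^ i * (Fintype.card F ^ (m + 1 - 1 - i + 1) - 1)) fun i hi => by
      rw [Nat.mul_sub_one, ← pow_add]; congr 2; have := Finset.mem_range.1 hi; omega, Finset.prod_mul_distrib,
    Finset.prod_pow_eq_pow_sum, Finset.prod_range_reflect (fun j => Fintype.card F ^ (j + 1) - 1),
    Finset.prod_range_succ', zero_add, pow_one, ← mul_assoc, mul_comm] at h
  exact Nat.eq_of_mul_eq_mul_right (Nat.sub_pos_of_lt Fintype.one_lt_card) h

theorem re_SL (h2 : 2 ≤ n) (h5 : n ≤ 5) (t : Ty (Fintype.card F) r e) :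
    ∃ a : M0 n r e →* SpecialLinearGroup (Fin n) F, Re (Fz n r e) ((Zs n r).subgroupOf _) a := by
  have o : Odd (Fintype.card F) := by exact_mod_cast t.odd
  let E := AlgebraicClosure F
  have i := (algebraMap F E).injective
  have k : (2 : E) ≠ 0 := by rw [← map_ofNat (algebraMap F E)]; exact (map_ne_zero _).2 (two_ne o)
  obtain ⟨ω, hω⟩ := IsAlgClosed.exists_pow_nat_eq (-1 : E) (n := 2 ^ (r + 2)) (by positivity)
  obtain ⟨u, ou, hu⟩ := t.prod h2 h5
  have d : ∀ B : Matrix (Fin n) (Fin n) F, (B.map (algebraMap F E)).det = algebraMap F E B.det := fun B =>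
    (RingHom.map_det _ B).symm
  refine exists_re h2 h5 (ch_h hω) k (κ := SpecialLinearGroup.toGL) SpecialLinearGroup.toGL_injective
    (j := (algebraMap F E).mapMatrix.toMonoidHom.comp (Units.coeHom _)) ((map_injective i).comp Units.val_injective)
    (fun x m => ?_) (fun g => ?_) ((o.pow (n := ∑ i ∈ Finset.range n, i)).mul ou) ?_ (fun D α β s => ?_) (fun g v => ?_)
    fun y m => ?_
  · have := Ym_lin (ch_h hω) k (FiniteField.frobeniusAlgHom F E).toRingHom (fun s => by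
      rw [← t.cast, Int.cast_natCast, ← nsmul_eq_mul, AddChar.map_nsmul_eq_pow]; rfl) m
    have ex : ∀ a b, Ym (ch_h hω) k e x a b ∈ (algebraMap F E).range := fun a b =>
      (Polynomial.splits_iff_card_roots.2 (by rw [FiniteField.roots_X_pow_card_sub_X,
        FiniteField.X_pow_card_sub_X_natDegree_eq _ Fintype.one_lt_card]; rfl)).mem_range_of_isRoot
        (FiniteField.X_pow_card_sub_X_ne_zero F Fintype.one_lt_card) (by simpa [sub_eq_zero] using congrFun₂ this a b)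
    choose B hB using ex
    have hB : (of B).map (algebraMap F E) = _ := Matrix.ext hB
    exact ⟨GeneralLinearGroup.mkOfDetNeZero (of B) fun q => (((Ym (ch_h hω) k e).toHomUnits x).isUnit.map
      detMonoidHom).ne_zero (by rw [← map_zero (algebraMap F E), ← q, ← d, hB]; rfl), hB⟩
  · refine (d g.1 ▸ map_eq_one_iff _ i).trans ⟨fun q => ⟨⟨g.1, q⟩, Units.ext rfl⟩, ?_⟩
    rintro ⟨y, rfl⟩
    exact y.2
  · obtain ⟨m, rfl⟩ : ∃ m, n = m + 1 := ⟨n - 1, by omega⟩
    rw [card_SL, mul_left_comm, ← hu, abs_prod']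
    refine congrArg _ (Finset.prod_congr rfl fun i _ => ?_)
    rw [← Nat.cast_pow, ← Nat.cast_pred (by positivity), Int.natAbs_natCast]
  · obtain ⟨g, s⟩ := Sim.map (α := (Units.coeHom _).comp α) (β := (Units.coeHom _).comp β) (algebraMap F E) (.id F)
      (card_ne h2 h5 k D) (card_ne h2 h5 (two_ne o) D) s
    exact ⟨g, fun x => Units.ext (by simpa using s x)⟩
  · refine ⟨GeneralLinearGroup.mkOfDetNeZero (diagonal fun i => g.1.det ^ v i) (by
      simp [Finset.prod_eq_zero_iff, g.det_ne_zero]), ?_⟩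
    refine (diagonal_map (d := fun i => g.1.det ^ v i) (map_zero (algebraMap F E))).trans
      (congrArg diagonal (funext fun i => ?_))
    rw [map_pow, ← d]; rfl
  · obtain ⟨s, -, q⟩ := Matrix.SpecialLinearGroup.mem_center_iff.1 m
    exact ⟨algebraMap F E s, (congrArg (·.map (algebraMap F E)) q.symm).trans (diagonal_map (map_zero _))⟩

omit [Fintype F] in
theorem pres_iff {q : ℕ} {σ : F →+* F} (hσ : ∀ t, σ t = t ^ q) {A : Matrix (Fin n) (Fin n) F} :
    (∀ u v, hermForm n F q (A *ᵥ u) (A *ᵥ v) = hermForm n F q u v) ↔ (A.map σ)ᵀ * A = 1 := by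
  simp only [Geom.hermForm_eq hσ, Geom.hermSesq_apply]
  refine ⟨fun h => ?_, fun h u v => ?_⟩
  · ext i j
    simpa [mul_apply, one_apply, Pi.single_apply, eq_comm] using h (Pi.single j 1) (Pi.single i 1)
  · have := congrArg (fun M => (σ ∘ v) ⬝ᵥ M *ᵥ u) h
    simp only [one_mulVec, ← mulVec_mulVec] at this
    rw [dotProduct_mulVec, vecMul_transpose] at this
    simpa [dotProduct, RingHom.map_mulVec] using this

theorem re_SU {q : ℕ} (h2 : 2 ≤ n) (h5 : n ≤ 5) (c : Fintype.card F = q ^ 2) (t : Ty (-q) r e) :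
    ∃ a : M0 n r e →* SU n F q, Re (Fz n r e) ((Zs n r).subgroupOf _) a := by
  have o : Odd q := by simpa using t.odd
  have k : (2 : F) ≠ 0 := two_ne (c ▸ o.pow)
  obtain ⟨σ, s1, s2, s3⟩ := Geom.exists_conj c
  obtain ⟨ω, hω⟩ : ∃ ω : F, ω ^ 2 ^ (r + 2) = -1 := by
    obtain ⟨g, hg⟩ := IsCyclic.exists_ofOrder_eq_natCard (α := Fˣ)
    obtain ⟨u, v, -, -, a, b⟩ := t.fac
    have d : 2 ^ (r + 3) ∣ orderOf g := by
      rw [hg, Nat.card_units, Nat.card_eq_fintype_card, c, ← Int.natCast_dvd_natCast, Nat.cast_pred (pow_pos o.pos _)]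
      exact ⟨u * v, by
        push_cast
        rw [show (q : ℤ) ^ 2 - 1 = (-q - 1) * (-q + 1) by ring, a, b]; cases e <;> simp <;> ring⟩
    have o := orderOf_pow_orderOf_div (isOfFinOrder_of_finite g).orderOf_pos.ne' d
    generalize g ^ _ = g at o
    refine ⟨g, (sq_eq_one_iff.1 ?_).resolve_left fun q => ?_⟩
    · rw [← pow_mul, ← pow_succ, ← o, ← Units.val_pow_eq_pow_val, pow_orderOf_eq_one, Units.val_one]
    · have := Nat.le_of_dvd (by positivity) (orderOf_dvd_of_pow_eq_one (Units.ext q : g ^ _ = 1))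
      rw [o, Nat.pow_le_pow_iff_right one_lt_two] at this
      omega
  obtain ⟨u, ou, hu⟩ := t.prod h2 h5
  let τ : Matrix (Fin n) (Fin n) F → Matrix (Fin n) (Fin n) F := fun A => (A.map σ)ᵀ
  have an : Cls.IsAnti τ := ⟨fun x y => by simp only [τ, Matrix.map_add _ (map_add σ), transpose_add],
    fun x y => by simp only [τ, Matrix.map_mul, transpose_mul],
    by simp only [τ, Matrix.map_one _ (map_zero σ) (map_one σ), transpose_one]⟩
  have un : ∀ g : GU n F q, τ g.1.1 * g.1.1 = 1 := fun g => (pres_iff s1).1 g.2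
  let κ : SU n F q →* GU n F q := (SpecialLinearGroup.toGL.comp (SU n F q).subtype).codRestrict _ fun x => x.2
  refine exists_re h2 h5 (ch_h hω) k (κ := κ) (fun x y e => Subtype.ext (SpecialLinearGroup.toGL_injective
    (congrArg Subtype.val e))) (j := (Units.coeHom _).comp (GU n F q).subtype)
    (Units.val_injective.comp Subtype.val_injective) (fun x m => ⟨⟨(Ym (ch_h hω) k e).toHomUnits x, (pres_iff s1).2
      (Ym_uni (ch_h hω) k σ (fun s => ?_) m)⟩, rfl⟩) (fun g => ⟨fun d => ⟨⟨⟨g.1.1, d⟩, g.2⟩, Subtype.ext (Units.ext rfl)⟩,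
      fun ⟨y, e⟩ => e ▸ y.1.2⟩) ((o.pow (n := n * (n - 1) / 2)).mul ou) ?_ (fun D α β ⟨g, s⟩ => ?_) (fun g v => ?_)
    fun y m => ?_
  · rw [← t.cast, Int.cast_neg, neg_mul, neg_neg, Int.cast_natCast, ← nsmul_eq_mul, AddChar.map_nsmul_eq_pow, s1]
  · obtain ⟨m, rfl⟩ : ∃ m, n = m + 1 := ⟨n - 1, by omega⟩
    refine Nat.eq_of_mul_eq_mul_left q.succ_pos ((Geom.card_SU c _ (by omega)).trans ?_)
    rw [mul_left_comm (Nat.card _), ← hu, abs_prod', Finset.prod_range_succ']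
    rw [if_pos Even.zero, zero_add, pow_one, mul_comm _ (q + 1), mul_left_comm]
    refine congrArg _ (congrArg _ (Finset.prod_congr rfl fun i _ => ?_))
    split_ifs with p
    · rw [(show Odd (i + 2) from p.add_one).neg_pow, ← Nat.cast_pow, add_assoc i]; omega
    · rw [(show Even (i + 2) from (Nat.not_even_iff_odd.1 p).add_one).neg_pow, ← Nat.cast_pow, ← Nat.cast_pred (pow_pos o.pos _),
        Int.natAbs_natCast]
  · obtain ⟨θ, hθ⟩ := DFunLike.ne_iff.1 s2
    have sc : ∀ (a : F) (A : Matrix (Fin n) (Fin n) F), scalar _ a * A = A * scalar _ a := fun a A =>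
      scalar_commute a (fun _ => .all _ _) A
    have ts : τ (scalar _ θ) = scalar _ (σ θ) := by simp [τ, diagonal_map (map_zero σ)]
    have tt : ∀ A, τ (τ A) = A := fun A => by ext; simp [τ, s3]
    obtain ⟨y, y1, y2⟩ := Cls.anti_norm an tt (θ := scalar _ θ) (s := τ g.1 * g.1) (by
      rw [ts, ← map_sub]; exact (sub_ne_zero.2 (Ne.symm hθ)).isUnit.map _) (sc _ _) (sc _ _)
      ((an.isUnit g.isUnit).mul g.isUnit) (by rw [an.mul, tt])
    obtain ⟨y, rfl⟩ : IsUnit y := isUnit_of_mul_isUnit_right (y1 ▸ (an.isUnit g.isUnit).mul g.isUnit)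
    refine ⟨⟨g * y⁻¹, (pres_iff s1).2 ?_⟩, fun x => Subtype.ext ?_⟩
    · show τ (g.1 * y⁻¹.1) * (g.1 * y⁻¹.1) = 1
      rw [an.mul, mul_assoc, ← mul_assoc (τ g.1), ← y1, Units.mul_inv_cancel_right, ← an.mul, Units.mul_inv, an.one]
    have s' : (β x).1.1 * g.1 = g.1 * (α x).1.1 := s x
    have := y2 (α x).1.1 (sc _ _) (by rw [ts, sc]) (by
      have e := congrArg τ s'
      rw [an.mul, an.mul] at e
      rw [mul_assoc, ← s', ← one_mul (τ g.1 * _), ← mul_eq_one_comm.1 (un (α x)), mul_assoc, ← mul_assoc (τ _) (τ _), ← e,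
        mul_assoc (τ _), ← mul_assoc (τ (β x).1.1), un, one_mul])
    show (β x).1 * (g * y⁻¹) = g * y⁻¹ * (α x).1
    rw [← mul_assoc, show (β x).1 * g = g * (α x).1 from Units.ext s', mul_assoc, mul_assoc,
      (show Commute y (α x).1 from Units.ext this).inv_left.eq]
  · have d := congrArg det (un g)
    rw [det_mul, det_transpose, ← RingHom.mapMatrix_apply, ← RingHom.map_det, det_one] at d
    refine ⟨⟨GeneralLinearGroup.mkOfDetNeZero (diagonal fun i => g.1.1.det ^ v i) (by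
      simp [Finset.prod_eq_zero_iff, g.1.det_ne_zero]), (pres_iff s1).2 ?_⟩, rfl⟩
    show ((diagonal _).map σ)ᵀ * diagonal _ = 1
    simp [diagonal_map (map_zero σ), ← mul_pow, d]
  · obtain ⟨s, q⟩ := Geom.center_su_scalar (Geom.isHerm_hermSesq s2 s3) (Geom.hermSesq_nondegenerate σ)
      (by simpa using h2) (Geom.suToUG_range n s1).ge y m
    exact ⟨s, toLin'.injective (LinearMap.ext fun v => (q v).trans (by simp [smul_eq_mul_diagonal, ← smul_eq_diagonal_mul]))⟩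

end CF.FC
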