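/-
The monomial models are pairwise non-isomorphic.
-/
import Cfsg.Agent.FC.C
set_option autoImplicit false
set_option linter.unusedSectionVars false
set_option maxRecDepth 100000
set_option synthInstance.maxSize 2000

namespace CF.FC
open Equiv Subgroup

variable {n r r' : ℕ} {e e' : Bool}

instance decM0 (x : Mo n r) : Decidable (x ∈ M0 n r e) := decidable_of_iff _ mem_M0.symm
instance decZs (x : Mo n r) : Decidable (x ∈ Zs n r) := inferInstanceAs (Decidable (_ ∧ _))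

theorem mq_one {x : M0 n r e} : (x : Mq n r e) = 1 ↔ x.1 ∈ Zs n r := QuotientGroup.eq_one_iff _

theorem diag_pow {x : Mo n r} (m : x ∈ M0 n r false) {k : ℕ} (h : x.π ^ k = 1) : x ^ (k * 2 ^ (r + 2)) = 1 := by
  have h' : (x ^ k).π = 1 := (Mo.pow_π x k).trans h
  rw [pow_mul]
  refine Mo.ext (funext fun i => ?_) (by rw [Mo.pow_π, h', one_pow]; rfl)
  rw [Mo.pow_t h', Nat.cast_pow, Nat.cast_two]
  exact fix_f.1 ((pow_mem m k).1.2 i)

theorem up3 (h : n = 3 ∨ n = 4) (x : Mq n r false) : x ^ 2 ^ (r + 3) = 1 := by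
  obtain ⟨x, rfl⟩ := QuotientGroup.mk_surjective x
  rw [← QuotientGroup.mk_pow, mq_one, coe_pow]
  by_cases k : x.1.π ^ 2 = 1
  · rw [pow_succ' 2, diag_pow x.2 k]; exact one_mem _
  obtain rfl | rfl := h
  · exact absurd ((by decide +kernel : ∀ π : Perm (Fin 3), π * Fin.revPerm = Fin.revPerm * π → π ^ 2 = 1) _ x.2.1.1) k
  rw [show 2 ^ (r + 3) = 4 * 2 ^ (r + 1) by ring, pow_mul]
  refine pow_mem ?_ _
  obtain ⟨⟨t, π⟩, m⟩ := x
  have q : ∀ i, ((⟨t, π⟩ : Mo 4 r) ^ 4).t i = t i + t (π.symm i) + t (π.symm (π.symm i)) +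
      t (π.symm (π.symm (π.symm i))) := fun i => by simp [pow_succ, Perm.mul_def]
  rcases (by decide +kernel : ∀ π : Perm (Fin 4), π * Fin.revPerm = Fin.revPerm * π → π ^ 2 ≠ 1 →
    π = ⟨![1, 3, 0, 2], ![2, 0, 3, 1], by decide, by decide⟩ ∨ π = ⟨![2, 0, 3, 1], ![1, 3, 0, 2], by decide, by decide⟩)
    π m.1.1 k with rfl | rfl <;>
  refine ⟨(Mo.pow_π _ _).trans (by dsimp only; decide +kernel), fun i j => ?_⟩ <;> rw [q, q] <;> fin_cases i <;> fin_cases j <;>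
    simp <;> ring

theorem up5 (x : Mq 5 r false) : x ^ 2 ^ (r + 4) = 1 := by
  obtain ⟨x, rfl⟩ := QuotientGroup.mk_surjective x
  rw [← QuotientGroup.mk_pow, mq_one, coe_pow, show 2 ^ (r + 4) = 4 * 2 ^ (r + 2) by ring, diag_pow x.2
    ((by decide +kernel : ∀ π : Perm (Fin 5), π * Fin.revPerm = Fin.revPerm * π → π ^ 4 = 1) _ x.2.1.1)]
  exact one_mem _

theorem low {x : Mo n r} (m : x ∈ M0 n r e) {k l : ℕ} (h : x.π ^ k = 1) {i j : Fin n}
    (q : l * (x ^ k).t i ≠ l * (x ^ k).t j) : ∃ y : Mq n r e, y ^ (k * l) ≠ 1 := ⟨(⟨x, m⟩ : M0 n r e), fun c => by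
  rw [← QuotientGroup.mk_pow, mq_one, coe_pow, pow_mul] at c
  have := c.2 i j
  rw [Mo.pow_t ((Mo.pow_π x k).trans h), Mo.pow_t ((Mo.pow_π x k).trans h)] at this
  exact q this⟩

theorem low3 : ∃ y : Mq 3 r true, y ^ 2 ^ (r + 2) ≠ 1 := by
  have := low (x := (⟨![1, zh r, ka r true], 1⟩ : Mo 3 r)) (e := true) (mem_M0.2 ⟨⟨by simp, fun i => by
    fin_cases i <;> simp [tw, Fin.rev, ka_sq, ka_h]⟩, by
    simp [sg, Fin.sum_univ_succ, ka]; linear_combination two_h⟩) (k := 1) (l := 2 ^ (r + 2)) rfl (i := 0) (j := 1) (by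
    simpa [← zh.eq_1, h_h] using h_ne)
  rwa [one_mul] at this

theorem low4 : ∃ y : Mq 4 r true, y ^ 2 ^ (r + 2) ≠ 1 := by
  have := low (x := (⟨![1, 0, 0, ka r true], swap 1 2⟩ : Mo 4 r)) (e := true) (mem_M0.2 ⟨⟨by dsimp only; decide +kernel, fun i => by
    fin_cases i <;> simp [tw, Fin.rev, ka_sq]⟩, by
    simp [sg, Fin.sum_univ_succ, ka]; linear_combination two_h⟩) (k := 2) (l := 2 ^ (r + 1)) (by dsimp only; decide +kernel)
    (i := 0) (j := 1) (by
    simp [sq, swap_apply_of_ne_of_ne, ← zf.eq_1, mul_add, ← two_mul, mul_comm (zf r), two_f, h_ne])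
  rwa [← pow_succ'] at this

theorem low5 : ∃ y : Mq 5 r true, y ^ 2 ^ (r + 3) ≠ 1 := by
  have := low (x := (⟨![1, 0, zh r, 0, ka r true], ⟨![1, 0, 2, 4, 3], ![1, 0, 2, 4, 3], by decide, by decide⟩⟩ : Mo 5 r))
    (e := true) (mem_M0.2 ⟨⟨by dsimp only; decide +kernel, fun i => by fin_cases i <;> simp [tw, Fin.rev, ka_sq, ka_h]⟩, by
    rw [sg, if_pos (by dsimp only; decide +kernel)]
    simp [Fin.sum_univ_succ, ka]; linear_combination two_h⟩) (k := 2) (l := 2 ^ (r + 2)) (by dsimp only; decide +kernel)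
    (i := 0) (j := 2) (by simp [sq, ← zh.eq_1, mul_add, h_h, h_ne])
  rwa [← pow_succ'] at this

/-- flat coordinates -/
@[ext] structure Fl where
  /-- exponent -/
  a : ℕ
  /-- exponent -/
  b : ℕ
  /-- exponent -/
  c : ℕ
  /-- exponent -/
  d : ℕ
  /-- inverse permutation -/
  p : ℕ
  /-- inverse permutation -/
  q : ℕ
  /-- inverse permutation -/
  u : ℕ
  /-- inverse permutation -/
  v : ℕ
/-- forced evaluation -/
def frc {α : Type} (m : ℕ) (k : ℕ → α) : α := Nat.rec (k 0) (fun m _ => k m.succ) m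
theorem frc_eq {α : Type} (m : ℕ) (k : ℕ → α) : frc m k = k m := by cases m <;> rfl
/-- selection -/
def sel (i a b c d : ℕ) : ℕ := cond (i.beq 0) a (cond (i.beq 1) b (cond (i.beq 2) c d))
/-- multiplication -/
def Fl.mul (x y : Fl) : Fl := frc ((x.a + sel x.p y.a y.b y.c y.d) % 8) fun a => frc ((x.b + sel x.q y.a y.b y.c y.d) % 8)
  fun b => frc ((x.c + sel x.u y.a y.b y.c y.d) % 8) fun c => frc ((x.d + sel x.v y.a y.b y.c y.d) % 8) fun d =>
  frc (sel x.p y.p y.q y.u y.v) fun p => frc (sel x.q y.p y.q y.u y.v) fun q => frc (sel x.u y.p y.q y.u y.v) fun u =>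
  frc (sel x.v y.p y.q y.u y.v) fun v => ⟨a, b, c, d, p, q, u, v⟩
/-- the test for scalars -/
def Fl.z (x : Fl) : Bool := x.p.beq 0 && (x.q.beq 1 && (x.u.beq 2 && (x.v.beq 3 && (x.a.beq x.b && (x.a.beq x.c && x.a.beq x.d)))))
/-- square, then test -/
def Fl.sq (x : Fl) (k : Fl → Bool) : Bool := match x.mul x with | ⟨a, b, c, d, p, q, u, v⟩ => k ⟨a, b, c, d, p, q, u, v⟩
/-- the coordinates -/
def fl (x : Mo 4 0) : Fl := ⟨(x.t 0).val, (x.t 1).val, (x.t 2).val, (x.t 3).val, x.π.symm 0, x.π.symm 1, x.π.symm 2, x.π.symm 3⟩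
theorem sel_eq (f : Fin 4 → ℕ) (i : Fin 4) : sel i (f 0) (f 1) (f 2) (f 3) = f i := by fin_cases i <;> rfl
theorem fl_mul (x y : Mo 4 0) : fl (x * y) = (fl x).mul (fl y) := by
  simp only [Fl.mul, frc_eq, fl, sel_eq fun i => (y.t i).val, sel_eq fun i => (y.π.symm i).val, Mo.mul_t, ZMod.val_add]
  rfl
theorem fl_z {x : Mo 4 0} : (fl x).z = true ↔ x ∈ Zs 4 0 := by
  simp only [Fl.z, fl, Bool.and_eq_true, Nat.beq_eq, (ZMod.val_injective _).eq_iff]
  refine ⟨fun ⟨h0, h1, h2, h3, k1, k2, k3⟩ => ⟨inv_eq_one.1 (Perm.ext fun i => Fin.ext ?_), fun i j => ?_⟩, fun h => ?_⟩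
  · fin_cases i
    exacts [h0, h1, h2, h3]
  · fin_cases i <;> fin_cases j <;> simp [← k1, ← k2, ← k3]
  · rw [h.1]
    exact ⟨rfl, rfl, rfl, rfl, h.2 _ _, h.2 _ _, h.2 _ _⟩
/-- the lifts of involutions -/
def Il : List Fl := ([(0, 1, 2, 3, 0), (0, 2, 1, 3, 4), (1, 0, 3, 2, 0), (1, 3, 0, 2, 4), (2, 0, 3, 1, 4), (2, 3, 0, 1, 0),
  (3, 1, 2, 0, 4), (3, 2, 1, 0, 0)] : List (ℕ × ℕ × ℕ × ℕ × ℕ)).flatMap fun π => ([0, 2, 4, 6].flatMap fun a =>
    [0, 2, 4, 6].flatMap fun b => [0, 2, 4, 6].flatMap fun c => [0, 2, 4, 6].map fun d =>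
      (⟨a, b, c, d, π.1, π.2.1, π.2.2.1, π.2.2.2.1⟩ : Fl)).filter fun x =>
        ((x.a + x.b + x.c + x.d + π.2.2.2.2) % 8).beq 0 && x.sq Fl.z

theorem mem_Il {x : Mo 4 0} (m : x ∈ M0 4 0 false) (h : x * x ∈ Zs 4 0) : fl x ∈ Il := by
  have k : ∀ i, (x.t i).val ∈ [0, 2, 4, 6] := fun i =>
    (by decide +kernel : ∀ s : Zr 0, s = ka 0 false * s → s.val ∈ [0, 2, 4, 6]) _ (m.1.2 i)
  have d := congrArg ZMod.val (mem_M0.1 m).2
  simp only [Fin.sum_univ_four, ZMod.val_add, ZMod.val_zero] at d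
  simp only [Il, List.mem_filter, List.mem_flatMap, List.mem_map, Bool.and_eq_true, Nat.beq_eq]
  refine ⟨((x.π.symm 0).val, (x.π.symm 1).val, (x.π.symm 2).val, (x.π.symm 3).val, (sg 0 x.π).val), ?_,
    ⟨_, k 0, _, k 1, _, k 2, _, k 3, rfl⟩, by simp only [fl]; omega, by rw [← fl_z, fl_mul] at h; exact h⟩
  have := m.1.1
  generalize x.π = π at this
  revert π
  decide +kernel

theorem il_four' : (Il.all fun x => Il.all fun y => (x.mul y).sq fun g => g.sq Fl.z) = true := by decide +kernel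

theorem il_four {x y : Mo 4 0} (a : fl x ∈ Il) (b : fl y ∈ Il) : x * y * (x * y) * (x * y * (x * y)) ∈ Zs 4 0 := by
  rw [← fl_z, fl_mul, fl_mul, fl_mul]
  exact List.all_eq_true.1 (List.all_eq_true.1 il_four' _ a) _ b

theorem mq_ne (h3 : 3 ≤ n) (h5 : n ≤ 5) (f : Mq n r false ≃* Mq n r' true) : False := by
  have c := Nat.card_congr f.toEquiv
  rw [card_Mq (by omega) h5, card_Mq (by omega) h5, Nat.pow_right_inj one_lt_two] at c
  have k : ∀ {a b}, (∀ x : Mq n r false, x ^ 2 ^ a = 1) → (∃ y : Mq n r' true, y ^ 2 ^ b ≠ 1) → b < a :=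
    fun {a b} u ⟨y, l⟩ => not_le.1 fun q => l (by
      obtain ⟨x, rfl⟩ := f.surjective y
      rw [← Nat.add_sub_cancel' q, pow_add, pow_mul, ← map_pow f x, u, map_one, one_pow])
  interval_cases n <;> simp only [vq, cond] at c <;> norm_num at c
  · have := k (up3 (.inl rfl)) low3; omega
  · have := k (up3 (.inr rfl)) low4
    obtain rfl : r = 0 := by omega
    obtain rfl : r' = 0 := by omega
    let x : M0 4 0 true := ⟨⟨![2, 1, 3, 6], swap 1 2⟩, by decide +kernel⟩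
    let y : M0 4 0 true := ⟨⟨fun _ => 0, Fin.revPerm⟩, by decide +kernel⟩
    obtain ⟨u, hu⟩ := QuotientGroup.mk_surjective (f.symm x)
    obtain ⟨v, hv⟩ := QuotientGroup.mk_surjective (f.symm y)
    have s : ∀ {x : M0 4 0 true} {u : M0 4 0 false}, u = f.symm x → x.1 * x.1 ∈ Zs 4 0 → fl u.1 ∈ Il := fun {x u} q m =>
      mem_Il u.2 ((mq_one (x := u * u)).1 (by
        rw [QuotientGroup.mk_mul, q, ← map_mul, ← QuotientGroup.mk_mul, (mq_one (x := x * x)).2 m, map_one]))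
    have := (mq_one (x := u * v * (u * v) * (u * v * (u * v)))).2
      (il_four (s hu (by decide +kernel)) (s hv (by decide +kernel)))
    simp only [QuotientGroup.mk_mul, hu, hv, ← map_mul] at this
    simp only [← QuotientGroup.mk_mul, map_eq_one_iff _ f.symm.injective, mq_one] at this
    exact absurd this (by decide +kernel)
  · have := k up5 low5; omega

theorem mq_eq (h2 : 2 ≤ n) (h5 : n ≤ 5) (f : Mq n r e ≃* Mq n r' e') : r = r' ∧ (3 ≤ n → e = e') := by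
  have c := Nat.card_congr f.toEquiv
  rw [card_Mq h2 h5, card_Mq h2 h5, Nat.pow_right_inj one_lt_two] at c
  have : 3 ≤ n → e = e' := fun h3 => by
    cases e <;> cases e'
    exacts [rfl, (mq_ne h3 h5 f).elim, (mq_ne h3 h5 f.symm).elim, rfl]
  refine ⟨?_, this⟩
  obtain rfl | h3 := h2.eq_or_lt
  · simpa [vq] using c
  obtain rfl := this h3
  cases e <;> interval_cases n <;> simp [vq] at c <;> omega

end CF.FC
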