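/-
A configuration of two commuting quaternion groups in `L₄(q)`.
-/
import Cfsg.Agent.FC.B
import Cfsg.Agent.Invol.Q8
set_option autoImplicit false
set_option linter.unusedSectionVars false

namespace CF.FC
open Subgroup Matrix CF.Transfer CF.Invol
open scoped MatrixGroups

variable {M G H : Type*} [Group M] [Group G] [Group H]

/-- two commuting quaternion groups with the same centre -/
structure Qq (a b c d : G) : Prop where
  ne : a * a ≠ 1
  bb : b * b = a * a
  ba : b * a * b⁻¹ = a⁻¹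
  cc : c * c = a * a
  dd : d * d = a * a
  dc : d * c * d⁻¹ = c⁻¹
  ac : a * c = c * a
  ad : a * d = d * a
  bc : b * c = c * b
  bd : b * d = d * b

/-- an element rotating the first quaternion group -/
def Ro (a b c d g : G) : Prop := g * a * g⁻¹ = b ∧ g * b * g⁻¹ = a * b ∧ g * c * g⁻¹ = c ∧ g * d * g⁻¹ = d

theorem qq_map {f : M →* G} (i : Function.Injective f) {a b c d : M} : Qq (f a) (f b) (f c) (f d) ↔ Qq a b c d :=
  ⟨fun h => ⟨fun e => h.ne (by rw [← map_mul, e, map_one]), i (by simpa using h.bb), i (by simpa using h.ba),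
    i (by simpa using h.cc), i (by simpa using h.dd), i (by simpa using h.dc), i (by simpa using h.ac),
    i (by simpa using h.ad), i (by simpa using h.bc), i (by simpa using h.bd)⟩,
  fun h => ⟨fun e => h.ne (i (by simpa using e)), by simpa using congrArg f h.bb, by simpa using congrArg f h.ba,
    by simpa using congrArg f h.cc, by simpa using congrArg f h.dd, by simpa using congrArg f h.dc,
    by simpa using congrArg f h.ac, by simpa using congrArg f h.ad, by simpa using congrArg f h.bc,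
    by simpa using congrArg f h.bd⟩⟩

theorem Ro.map (f : M →* G) {a b c d g : M} (h : Ro a b c d g) : Ro (f a) (f b) (f c) (f d) (f g) :=
  ⟨by simpa using congrArg f h.1, by simpa using congrArg f h.2.1, by simpa using congrArg f h.2.2.1,
    by simpa using congrArg f h.2.2.2⟩

theorem Qq.into [Finite G] {a b c d : G} (h : Qq a b c d) {S X : Subgroup G} (s : IsSylowIn 2 S X) (m1 : a ∈ X)
    (m2 : b ∈ X) (m3 : c ∈ X) (m4 : d ∈ X) :
    ∃ u ∈ X, u * a * u⁻¹ ∈ S ∧ u * b * u⁻¹ ∈ S ∧ u * c * u⁻¹ ∈ S ∧ u * d * u⁻¹ ∈ S := by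
  have p := isQ8_closure h.bb h.ne h.ba
  have q := isQ8_closure (h.dd.trans h.cc.symm) (h.cc ▸ h.ne) h.dc
  obtain ⟨u, m, l⟩ := s.exists_cj_le (IsPGroup.to_sup_of_normal_left' p.isPGroup q.isPGroup (q.le_iff.2
    ⟨centralizer_le_normalizer _ (p.mem_centralizer_iff'.2 ⟨h.ac.symm, h.bc.symm⟩),
      centralizer_le_normalizer _ (p.mem_centralizer_iff'.2 ⟨h.ad.symm, h.bd.symm⟩)⟩))
    (sup_le (p.le_iff.2 ⟨m1, m2⟩) (q.le_iff.2 ⟨m3, m4⟩))
  exact ⟨u, m, l (conj_mem_cj (mem_sup_left p.left_mem)), l (conj_mem_cj (mem_sup_left p.right_mem)),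
    l (conj_mem_cj (mem_sup_right q.left_mem)), l (conj_mem_cj (mem_sup_right q.right_mem))⟩

/-- a centralizer with a character of order two -/
def Ix (z : G) : Prop := ∃ ψ : centralizer {z} →* ℤˣ, ∃ x, ψ x ≠ 1

theorem Ix.map {z : G} (h : Ix z) (e : G ≃* H) : Ix (e z) := by
  obtain ⟨ψ, x, h⟩ := h
  refine ⟨ψ.comp ((e.symm.toMonoidHom.comp (Subgroup.subtype _)).codRestrict _ fun y => mem_centralizer_singleton_iff.2
    (e.injective (by simpa using mem_centralizer_singleton_iff.1 y.2))), ⟨e x, mem_centralizer_singleton_iff.2 (by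
      rw [← map_mul, mem_centralizer_singleton_iff.1 x.2, map_mul])⟩, ?_⟩
  exact fun q => h (q ▸ congrArg ψ (Subtype.ext (e.symm_apply_apply x).symm))

theorem ix_quot {d s m : G} (hm : m ∈ center G) (m1 : m ≠ 1) (sd : s * d = m * d * s) (dd : d * d = 1)
    (c : ∀ z ∈ center G, z * z = 1 → z = 1 ∨ z = m) : Ix (d : G ⧸ center G) := by
  classical
  have cm : ∀ {z}, z ∈ center G → ∀ g, g * z = z * g := fun h => mem_center_iff.1 h
  have k : ∀ x : centralizer {(d : G ⧸ center G)}, x.1.out * d = d * x.1.out ∨ x.1.out * d = m * d * x.1.out := fun x => by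
    have z : (d * x.1.out)⁻¹ * (x.1.out * d) ∈ center G := QuotientGroup.eq.1 (by
      simpa using (mem_centralizer_singleton_iff.1 x.2).symm)
    generalize x.1.out = y at z
    obtain ⟨z, hz, e⟩ : ∃ z ∈ center G, y * d = z * d * y := ⟨_, z, by rw [mul_assoc, ← cm z]; group⟩
    rcases c z hz (by
      have : y * (d * d) = z * z * (d * d) * y := by
        rw [← mul_assoc, e, mul_assoc, e, ← mul_assoc, ← mul_assoc, mul_assoc z d z, cm hz]; group
      simpa [dd] using this.symm) with rfl | rfl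
    exacts [.inl (by simpa using e), .inr e]
  have lf : ∀ (x : G ⧸ center G) (y : G), y = x → (x.out * d = d * x.out ↔ y * d = d * y) := fun x y e => by
    have z : y⁻¹ * x.out ∈ center G := QuotientGroup.eq.1 (by simp [e])
    rw [← mul_inv_cancel_left y x.out]
    generalize y⁻¹ * x.out = w at z
    rw [mul_assoc, ← cm z d, ← mul_assoc, ← mul_assoc, mul_left_inj]
  have mm : m * m = 1 := by
    have : s * (d * d) = m * m * (d * d) * s := by
      rw [← mul_assoc, sd, mul_assoc, sd, ← mul_assoc, ← mul_assoc, mul_assoc m d m, cm hm]; group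
    simpa [dd] using this.symm
  have nb : ∀ {y}, y * d = m * d * y → ¬ y * d = d * y := fun e f => m1 (by simpa [f, mul_assoc] using e.symm)
  refine ⟨MonoidHom.mk' (fun x => if x.1.out * d = d * x.1.out then 1 else -1) fun x y => ?_, ⟨s,
    mem_centralizer_singleton_iff.2 (by
      rw [← QuotientGroup.mk_mul, sd, QuotientGroup.mk_mul, QuotientGroup.mk_mul, (QuotientGroup.eq_one_iff _).2 hm,
        one_mul])⟩, by simp [lf _ s rfl, nb sd]⟩
  rw [lf _ (x.1.out * y.1.out) (by simp)]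
  rcases k x with p | p <;> rcases k y with q | q
  · rw [if_pos p, if_pos q, if_pos (by rw [mul_assoc, q, ← mul_assoc, p, mul_assoc]), one_mul]
  · rw [if_pos p, if_neg (nb q), if_neg (nb (by
      rw [mul_assoc, q, ← mul_assoc, ← mul_assoc, cm hm, mul_assoc m, p]; group)), one_mul]
  · rw [if_neg (nb p), if_pos q, if_neg (nb (by rw [mul_assoc, q, ← mul_assoc, p]; group)), mul_one]
  · rw [if_neg (nb p), if_neg (nb q), if_pos (by
      rw [mul_assoc, q, ← mul_assoc, ← mul_assoc, cm hm, mul_assoc m, p, ← mul_assoc, ← mul_assoc, mm]; group)]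
    rfl

variable {F : Type*} [Field F]
/-- block diagonal matrices -/
def bm (A B : Matrix (Fin 2) (Fin 2) F) : Matrix (Fin 4) (Fin 4) F :=
  !![A 0 0, A 0 1, 0, 0; A 1 0, A 1 1, 0, 0; 0, 0, B 0 0, B 0 1; 0, 0, B 1 0, B 1 1]
theorem bm_det (A B : Matrix (Fin 2) (Fin 2) F) : (bm A B).det = A.det * B.det := by
  simp [bm, det_fin_two, det_succ_row_zero, Fin.sum_univ_succ, Fin.succAbove]; ring
/-- the block embedding -/
def bk : SL(2, F) × SL(2, F) →* SL(4, F) := MonoidHom.mk' (fun p => ⟨bm p.1.1 p.2.1, by rw [bm_det, p.1.2, p.2.2, one_mul]⟩)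
  fun p q => Subtype.ext (show bm (p.1.1 * q.1.1) (p.2.1 * q.2.1) = bm p.1.1 p.2.1 * bm q.1.1 q.2.1 by
    ext i j; fin_cases i <;> fin_cases j <;> simp [bm, mul_apply, Fin.sum_univ_succ])
theorem bk_val (A B : SL(2, F)) : (bk (A, B)).1 = bm A.1 B.1 := rfl

theorem exists_qq [Finite F] (k : (2 : F) ≠ 0) : ∃ a b c d g : PSL(4, F), Qq a b c d ∧ Ro a b c d g ∧ Ix (a * a) := by
  obtain ⟨p, _⟩ := CharP.exists F
  haveI := Fact.mk (CharP.char_is_prime F p)
  obtain ⟨x, y, e⟩ := CharP.sq_add_sq F p (-1)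
  push_cast at e
  generalize (x : F) = x, (y : F) = y at e
  obtain ⟨I, hI⟩ : ∃ I : SL(2, F), I.1 = !![0, -1; 1, 0] := ⟨⟨_, by simp [det_fin_two]⟩, rfl⟩
  obtain ⟨J, hJ⟩ : ∃ J : SL(2, F), J.1 = !![x, y; y, -x] := ⟨⟨_, by rw [det_fin_two_of]; linear_combination -e⟩, rfl⟩
  obtain ⟨g, hg⟩ : ∃ g : SL(2, F), g.1 = !![(1 + x - y) / 2, (-1 + y + x) / 2; (1 + y + x) / 2, (1 - x + y) / 2] :=
    ⟨⟨_, by rw [det_fin_two_of]; field_simp; linear_combination -2 * e⟩, rfl⟩
  obtain ⟨s, hs⟩ : ∃ s : SL(4, F), s.1 = !![0, 0, 1, 0; 0, 0, 0, 1; 1, 0, 0, 0; 0, 1, 0, 0] :=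
    ⟨⟨_, by simp [det_succ_row_zero, Fin.sum_univ_succ, Fin.succAbove]⟩, rfl⟩
  have ii : I * I = -1 := Subtype.ext (by ext i j; fin_cases i <;> fin_cases j <;> simp [hI])
  have jj : J * J = -1 := Subtype.ext (by
    ext i j; fin_cases i <;> fin_cases j <;> simp [hJ] <;> first | ring1 | linear_combination e)
  have ji : J * I * J⁻¹ = I⁻¹ := by
    rw [mul_inv_eq_iff_eq_mul, eq_inv_mul_iff_mul_eq]
    exact Subtype.ext (by simp [hI, hJ])
  have gi : g * I * g⁻¹ = J := mul_inv_eq_iff_eq_mul.2 (Subtype.ext (by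
    ext i j; fin_cases i <;> fin_cases j <;> simp [hI, hJ, hg] <;> field_simp <;>
      first | linear_combination e | linear_combination -e))
  have gj : g * J * g⁻¹ = I * J := mul_inv_eq_iff_eq_mul.2 (Subtype.ext (by
    ext i j; fin_cases i <;> fin_cases j <;> simp [hI, hJ, hg] <;> ring1))
  haveI : Fact (Even (Fintype.card (Fin 4))) := ⟨by decide⟩
  let f : SL(2, F) × SL(2, F) →* PSL(4, F) := (QuotientGroup.mk' _).comp bk
  have n1 : (-1 : F) ≠ 1 := fun e => k (by linear_combination -e)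
  have ng : bk ((-1, -1) : SL(2, F) × SL(2, F)) = -1 := Subtype.ext (by
    ext i j; fin_cases i <;> fin_cases j <;> simp [bk_val, bm])
  have mc : (-1 : SL(4, F)) ∈ center _ := mem_center_iff.2 (by simp)
  have z : f (1, -1) = f (-1, 1) := by
    rw [show ((1, -1) : SL(2, F) × SL(2, F)) = (-1, 1) * (-1, -1) by simp, map_mul,
      show f (-1, -1) = 1 from (QuotientGroup.eq_one_iff _).2 (ng ▸ mc), mul_one]
  refine ⟨f (I, 1), f (J, 1), f (1, I), f (1, J), f (g, 1), ⟨fun q => ?_, ?_, ?_, ?_, ?_, ?_, ?_, ?_, ?_, ?_⟩,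
    Ro.map f ⟨?_, ?_, ?_, ?_⟩, ?_⟩
  · rw [← map_mul, Prod.mk_mul_mk, ii, mul_one] at q
    obtain ⟨s, -, q⟩ := Matrix.SpecialLinearGroup.mem_center_iff.1 ((QuotientGroup.eq_one_iff (bk (-1, 1))).1 q)
    have q0 := congrFun₂ q 0 0
    have q2 := congrFun₂ q 2 2
    simp [bk_val, bm] at q0 q2
    exact n1 (q0.symm.trans q2)
  iterate 9 simp only [← map_mul, ← map_inv, Prod.mk_mul_mk, Prod.inv_mk, ii, jj, ji, z, mul_one, one_mul, inv_one]
  iterate 4 simp [gi, gj]
  rw [← map_mul, Prod.mk_mul_mk, ii, mul_one]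
  refine ix_quot (s := s) (d := bk (-1, 1)) mc (fun q => n1 (by simpa using congrFun₂ (congrArg Subtype.val q) 0 0))
    (Subtype.ext (by ext i j; fin_cases i <;> fin_cases j <;> simp [bk_val, bm, hs, mul_apply, Fin.sum_univ_succ]))
    (by rw [← map_mul, Prod.mk_mul_mk, neg_mul_neg, mul_one]; exact bk.map_one) fun z m q => ?_
  obtain ⟨s, -, r⟩ := Matrix.SpecialLinearGroup.mem_center_iff.1 m
  have := congrFun₂ (congrArg Subtype.val q) 0 0
  rw [Matrix.SpecialLinearGroup.coe_mul, ← r, ← map_mul] at this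
  refine (mul_self_eq_one_iff.1 (by simpa using this)).imp (fun t => Subtype.ext ?_) fun t => Subtype.ext ?_ <;>
    simp [← r, t, ← diagonal_neg]

theorem Eqv.change [Finite G] {M' : Type*} [Group M'] {a : M →* G} {b : M →* H} (h : Eqv a b) {a' : M' →* G} (k : Sy a') :
    ∃ b' : M' →* H, Eqv a' b' := by
  obtain ⟨S, e⟩ := isSylowIn_top_iff.1 k.syl
  obtain ⟨ι, q⟩ := h.sub S
  exact ⟨_, q.comp ((MonoidHom.ofInjective k.inj).trans (MulEquiv.subgroupCongr e.symm))⟩

theorem Eqv.qq [Finite H] {α : M →* G} {β : M →* H} (h : Eqv α β) {a b c d g : H} (q : Qq a b c d) (r : Ro a b c d g)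
    (i : Ix (a * a)) : ∃ a b c d g, Qq a b c d ∧ Ro (α a) (α b) (α c) (α d) g ∧ Ix (β (a * a)) := by
  obtain ⟨u, -, ⟨a', e1⟩, ⟨b', e2⟩, ⟨c', e3⟩, ⟨d', e4⟩⟩ := q.into h.r.syl trivial trivial trivial trivial
  have q' := (qq_map (f := (MulAut.conj u).toMonoidHom) (MulAut.conj u).injective).2 q
  have r' := r.map (MulAut.conj u).toMonoidHom
  have i' := i.map (MulAut.conj u)
  rw [map_mul] at i'
  simp only [MulEquiv.coe_toMonoidHom, MulAut.conj_apply, ← e1, ← e2, ← e3, ← e4] at q' r' i'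
  obtain ⟨g', k⟩ := (h.cn {(a', b'), (b', a' * b'), (c', c'), (d', d')}).2 ⟨_, by
    simpa using ⟨r'.1.symm, r'.2.1.symm, r'.2.2.1.symm, r'.2.2.2.symm⟩⟩
  simp only [Set.mem_insert_iff, Set.mem_singleton_iff, forall_eq_or_imp, forall_eq, map_mul] at k
  exact ⟨a', b', c', d', g', (qq_map h.r.inj).1 q', ⟨k.1.symm, k.2.1.symm, k.2.2.1.symm, k.2.2.2.symm⟩, by rwa [map_mul]⟩

theorem no_perm {n : ℕ} (hn : n < 16) {a b c d g : Equiv.Perm (Fin n)} (q : Qq a b c d) (r : Ro a b c d g) : False := by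
  classical
  have Q := isQ8_closure (q.dd.trans q.cc.symm) (q.cc ▸ q.ne) q.dc
  have P := isQ8_closure q.bb q.ne q.ba
  generalize closure {d, c} = U at Q
  have cU : ∀ {x}, x * c = c * x → x * d = d * x → ∀ u ∈ U, ∀ p, x (u p) = u (x p) := fun {x} h k u m p =>
    (DFunLike.congr_fun (Q.mem_centralizer_iff'.2 ⟨h, k⟩ u m) p).symm
  have gU := cU (mul_inv_eq_iff_eq_mul.1 r.2.2.1) (mul_inv_eq_iff_eq_mul.1 r.2.2.2)
  have zU := cU (x := a * a) (Commute.mul_left q.ac q.ac) (Commute.mul_left q.ad q.ad)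
  have fr : ∀ p, (a * a) p ≠ p → Function.Injective fun u : U => u.1 p := fun p hp u v e => by
    have e' : (v⁻¹ * u).1 p = p := by simpa [Equiv.symm_apply_eq] using e
    rcases Q.mul_self_cases (v⁻¹ * u).2 with k | k | k
    · exact (inv_mul_eq_one.1 (Subtype.ext k)).symm
    · exact absurd (by rwa [k, q.cc] at e') hp
    · exact absurd (by rw [← q.cc, ← k, Equiv.Perm.mul_apply, e', e']) hp
  have orb : ∀ p p', (a * a) p ≠ p → (a * a) p' ≠ p' → ∃ u ∈ U, u p = p' := fun p p' h h' => by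
    by_contra! k
    have := Nat.card_le_card_of_injective (Sum.elim (fun u : U => u.1 p) fun u : U => u.1 p')
      ((fr p h).sumElim (fr p' h') fun u v e => k _ (v⁻¹ * u).2 (by simpa [Equiv.symm_apply_eq] using e))
    rw [Nat.card_sum, Q.card, Nat.card_fin] at this
    omega
  have gz : g * (a * a) = a * a * g := by
    rw [← mul_inv_eq_iff_eq_mul, ← conj_mul, r.1, q.bb]
  have fx : ∀ p, (a * a) p ≠ p → (g * g * (g * g)) p = p := fun p h => by
    obtain ⟨u, m, e⟩ := orb p (g p) h fun e => h (g.injective (by rw [← Equiv.Perm.mul_apply, gz]; exact e))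
    have : (u * u * (u * u)) p = p := by
      rcases Q.mul_self_cases m with k | k | k <;> simp only [k, Q.pow_four, mul_one, Equiv.Perm.one_apply]
    simpa only [Equiv.Perm.mul_apply, ← e, gU u m] using this
  obtain ⟨p, hp⟩ := DFunLike.ne_iff.1 q.ne
  have ga : g * g * (g * g) * a = b * (g * g * (g * g)) := by
    have e3 : g * (a * b) * g⁻¹ = a := by
      rw [← conj_mul, r.1, r.2.1, ← mul_assoc, mul_inv_eq_iff_eq_mul.1 q.ba, mul_assoc, q.bb, inv_mul_cancel_left]
    rw [← mul_inv_eq_iff_eq_mul]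
    calc _ = g * (g * (g * (g * a * g⁻¹) * g⁻¹) * g⁻¹) * g⁻¹ := by group
      _ = b := by rw [r.1, r.2.1, e3, r.1]
  have e : a p = b p := by
    have := DFunLike.congr_fun ga p
    rwa [Equiv.Perm.mul_apply, Equiv.Perm.mul_apply b, fx p hp, fx _ fun e => hp (a.injective e)] at this
  have k : a⁻¹ * b * (a⁻¹ * b) = a * a := by
    rw [mul_assoc, ← mul_assoc b, show b * a⁻¹ = a * b by rw [← mul_inv_eq_iff_eq_mul, ← conj_inv, q.ba, inv_inv], mul_assoc, q.bb,
      inv_mul_cancel_left]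
  exact hp (by rw [← k]; simp [← e])

end CF.FC
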